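import Cfsg.Agent.Aschbacher.Symp.Tensor

/-!
A tensor decomposition into a plane and a four-space of plus type is never maximal: its stabiliser lies in the
stabiliser of a tensor cube of planes and misses an exchange of two factors.
-/

set_option autoImplicit false
set_option linter.unusedSectionVars false
set_option linter.style.haveILetI false

namespace Cfsg.Agent.Aschbacher

open scoped MatrixGroups Matrix Kronecker
open Module
open Cfsg.Agent.MaxSub.Asch (tr spData gramForm exists_factors J2 J2_conj tens tens_apply tensGL factorPerm mem_transport)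

variable {F : Type*} [Field F]

theorem gramForm_J2 (x y : Fin 2 → F) : gramForm J2 x y = x 0 * y 1 - x 1 * y 0 := by
  simp [gramForm, J2, Matrix.mulVec, dotProduct, Fin.sum_univ_two]
  ring

theorem exists_pvec (v : Fin 2 × Fin 2 → F) (h : v (0, 0) * v (1, 1) = v (0, 1) * v (1, 0)) :
    ∃ x y : Fin 2 → F, v = pvec x y := by
  by_cases h0 : v (0, 0) = 0
  · rw [h0, zero_mul] at h
    rcases mul_eq_zero.mp h.symm with h1 | h1
    · refine ⟨![0, 1], ![v (1, 0), v (1, 1)], funext fun p => ?_⟩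
      obtain ⟨i, j⟩ := p
      fin_cases i <;> fin_cases j <;> simp [pvec, h0, h1]
    · refine ⟨![v (0, 1), v (1, 1)], ![0, 1], funext fun p => ?_⟩
      obtain ⟨i, j⟩ := p
      fin_cases i <;> fin_cases j <;> simp [pvec, h0, h1]
  · refine ⟨![v (0, 0), v (1, 0)], ![1, v (0, 1) / v (0, 0)], funext fun p => ?_⟩
    obtain ⟨i, j⟩ := p
    fin_cases i <;> fin_cases j <;> simp [pvec]
    · field_simp
    · field_simp; linear_combination h

theorem pvec_single {a b : ℕ} (i : Fin a) (j : Fin b) :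
    pvec (Pi.single i (1 : F)) (Pi.single j 1) = Pi.single (i, j) 1 := by
  funext p
  obtain ⟨k, l⟩ := p
  simp [pvec, Pi.single_apply, ite_and]
  split_ifs <;> rfl

theorem J2_pair_apply (u w : Fin 2 × Fin 2 → F) :
    gramForm ((J2 : Matrix (Fin 2) (Fin 2) F) ⊗ₖ J2) u w =
      u (0, 0) * w (1, 1) - u (0, 1) * w (1, 0) - u (1, 0) * w (0, 1) + u (1, 1) * w (0, 0) := by
  simp [gramForm, Matrix.mulVec, dotProduct, Fintype.sum_prod_type, Fin.sum_univ_two, J2]
  ring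

/-- A similitude of the product of two forms in dimension two is a pure tensor, up to exchanging the factors. -/
theorem similitude_J2_pair (h2 : (2 : F) ≠ 0) {C : Matrix (Fin 2 × Fin 2) (Fin 2 × Fin 2) F} {μ : F} (hμ : μ ≠ 0)
    (hC : ∀ u w, gramForm ((J2 : Matrix (Fin 2) (Fin 2) F) ⊗ₖ J2) (C *ᵥ u) (C *ᵥ w) =
      μ * gramForm ((J2 : Matrix (Fin 2) (Fin 2) F) ⊗ₖ J2) u w) :
    ∃ (a b : GL (Fin 2) F),
      (∀ p, C *ᵥ Pi.single p 1 = pvec ((a : Matrix (Fin 2) (Fin 2) F) *ᵥ Pi.single p.1 1) ((b : Matrix (Fin 2) (Fin 2) F) *ᵥ Pi.single p.2 1)) ∨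
      (∀ p, C *ᵥ Pi.single p 1 = pvec ((a : Matrix (Fin 2) (Fin 2) F) *ᵥ Pi.single p.2 1) ((b : Matrix (Fin 2) (Fin 2) F) *ᵥ Pi.single p.1 1)) := by
  classical
  set Φ := gramForm ((J2 : Matrix (Fin 2) (Fin 2) F) ⊗ₖ J2) with hΦ
  have hsing : ∀ v, Φ v v = 0 → v (0, 0) * v (1, 1) = v (0, 1) * v (1, 0) := fun v hv => by
    rw [hΦ, J2_pair_apply] at hv
    have : (2 : F) * (v (0, 0) * v (1, 1) - v (0, 1) * v (1, 0)) = 0 := by linear_combination hv
    exact sub_eq_zero.mp ((mul_eq_zero.mp this).resolve_left h2)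
  have hdiag : ∀ p, Φ (Pi.single p (1 : F)) (Pi.single p 1) = 0 := fun p => by
    obtain ⟨i, j⟩ := p
    rw [hΦ, J2_pair_apply]
    fin_cases i <;> fin_cases j <;> simp
  have hval : ∀ p q, Φ (C *ᵥ Pi.single p 1) (C *ᵥ Pi.single q 1) = μ * Φ (Pi.single p (1 : F)) (Pi.single q 1) :=
    fun p q => hC _ _
  obtain ⟨x, y, hxy⟩ := exists_pvec _ (hsing _ (by rw [hval (0, 0) (0, 0), hdiag, mul_zero]))
  obtain ⟨x', y', hxy'⟩ := exists_pvec _ (hsing _ (by rw [hval (1, 1) (1, 1), hdiag, mul_zero]))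
  have hone : Φ (Pi.single ((0 : Fin 2), (0 : Fin 2)) (1 : F)) (Pi.single (1, 1) 1) = 1 := by
    rw [hΦ, J2_pair_apply]; simp
  have hμ' : μ = (x 0 * x' 1 - x 1 * x' 0) * (y 0 * y' 1 - y 1 * y' 0) := by
    have h := hval (0, 0) (1, 1)
    rw [hxy, hxy', hone, mul_one, hΦ, gramForm_kron_pvec, gramForm_J2, gramForm_J2] at h
    exact h.symm
  have hX : (!![x 0, x' 0; x 1, x' 1] : Matrix (Fin 2) (Fin 2) F).det ≠ 0 := by
    rw [Matrix.det_fin_two]; simp only [Matrix.of_apply, Matrix.cons_val', Matrix.cons_val_zero, Matrix.cons_val_one,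
      Matrix.cons_val_fin_one]
    intro h0; apply hμ; rw [hμ']; linear_combination (y 0 * y' 1 - y 1 * y' 0) * h0
  have hY : (!![y 0, y' 0; y 1, y' 1] : Matrix (Fin 2) (Fin 2) F).det ≠ 0 := by
    rw [Matrix.det_fin_two]; simp only [Matrix.of_apply, Matrix.cons_val', Matrix.cons_val_zero, Matrix.cons_val_one,
      Matrix.cons_val_fin_one]
    intro h0; apply hμ; rw [hμ']; linear_combination (x 0 * x' 1 - x 1 * x' 0) * h0
  set X := Matrix.GeneralLinearGroup.mkOfDetNeZero _ hX with hXdef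
  set Y := Matrix.GeneralLinearGroup.mkOfDetNeZero _ hY with hYdef
  have hX0 : (X : Matrix (Fin 2) (Fin 2) F) *ᵥ Pi.single 0 1 = x := by
    funext i; fin_cases i <;> simp [hXdef]
  have hX1 : (X : Matrix (Fin 2) (Fin 2) F) *ᵥ Pi.single 1 1 = x' := by
    funext i; fin_cases i <;> simp [hXdef]
  have hY0 : (Y : Matrix (Fin 2) (Fin 2) F) *ᵥ Pi.single 0 1 = y := by
    funext i; fin_cases i <;> simp [hYdef]
  have hY1 : (Y : Matrix (Fin 2) (Fin 2) F) *ᵥ Pi.single 1 1 = y' := by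
    funext i; fin_cases i <;> simp [hYdef]
  set T := (X : Matrix (Fin 2) (Fin 2) F) ⊗ₖ (Y : Matrix (Fin 2) (Fin 2) F) with hT
  set T' := ((X⁻¹ : GL (Fin 2) F) : Matrix (Fin 2) (Fin 2) F) ⊗ₖ ((Y⁻¹ : GL (Fin 2) F) : Matrix (Fin 2) (Fin 2) F) with hT'
  have hTT' : T * T' = 1 := by
    rw [hT, hT', ← Matrix.mul_kronecker_mul, Units.mul_inv, Units.mul_inv, Matrix.one_kronecker_one]
  have hTΦ : ∀ u w, Φ (T *ᵥ u) (T *ᵥ w) = μ * Φ u w := by
    intro u w
    have h1 : Tᵀ * ((J2 : Matrix (Fin 2) (Fin 2) F) ⊗ₖ J2) * T = μ • ((J2 : Matrix (Fin 2) (Fin 2) F) ⊗ₖ J2) := by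
      rw [hT, ← Matrix.kroneckerMap_transpose, ← Matrix.mul_kronecker_mul, ← Matrix.mul_kronecker_mul, J2_conj, J2_conj,
        Matrix.smul_kronecker, Matrix.kronecker_smul, smul_smul, hμ']
      congr 2 <;> simp [hXdef, hYdef, Matrix.det_fin_two] <;> ring
    rw [hΦ]
    simp only [gramForm]
    rw [show ∀ K : Matrix (Fin 2 × Fin 2) (Fin 2 × Fin 2) F, μ * (u ⬝ᵥ (K *ᵥ w)) = u ⬝ᵥ ((μ • K) *ᵥ w) from fun K => by
        rw [Matrix.smul_mulVec, dotProduct_smul, smul_eq_mul], ← h1, mul_assoc, ← Matrix.mulVec_mulVec w _ (_ * T), Matrix.dotProduct_mulVec u, Matrix.vecMul_transpose,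
      Matrix.mulVec_mulVec]
  set p := T' *ᵥ (C *ᵥ Pi.single ((0 : Fin 2), (1 : Fin 2)) 1) with hp
  set r := T' *ᵥ (C *ᵥ Pi.single ((1 : Fin 2), (0 : Fin 2)) 1) with hr
  have hTp : T *ᵥ p = C *ᵥ Pi.single (0, 1) 1 := by rw [hp, Matrix.mulVec_mulVec, hTT', Matrix.one_mulVec]
  have hTr : T *ᵥ r = C *ᵥ Pi.single (1, 0) 1 := by rw [hr, Matrix.mulVec_mulVec, hTT', Matrix.one_mulVec]
  have hT00 : T *ᵥ Pi.single (0, 0) 1 = C *ᵥ Pi.single (0, 0) 1 := by
    rw [← pvec_single, hT, kron_mulVec_pvec, hX0, hY0, pvec_single, hxy]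
  have hT11 : T *ᵥ Pi.single (1, 1) 1 = C *ᵥ Pi.single (1, 1) 1 := by
    rw [← pvec_single, hT, kron_mulVec_pvec, hX1, hY1, pvec_single, hxy']
  have hpull : ∀ u w z z', T *ᵥ u = C *ᵥ Pi.single z 1 → T *ᵥ w = C *ᵥ Pi.single z' 1 →
      Φ u w = Φ (Pi.single z (1 : F)) (Pi.single z' 1) := by
    intro u w z z' hu hw
    have h := hTΦ u w
    rw [hu, hw, hval] at h
    exact (mul_left_cancel₀ hμ h).symm
  have e1 := hpull _ _ _ _ hT00 hTp
  have e2 := hpull _ _ _ _ hT11 hTp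
  have e3 := hpull _ _ _ _ hTp hTp
  have e4 := hpull _ _ _ _ hT00 hTr
  have e5 := hpull _ _ _ _ hT11 hTr
  have e6 := hpull _ _ _ _ hTr hTr
  have e7 := hpull _ _ _ _ hTp hTr
  rw [hΦ] at e1 e2 e3 e4 e5 e6 e7
  simp [J2_pair_apply] at e1 e2 e4 e5
  simp [J2_pair_apply, e1, e2, e4, e5] at e3 e6 e7
  have hdg : ∀ s t : F, s ≠ 0 → t ≠ 0 → ∃ d : GL (Fin 2) F, (d : Matrix (Fin 2) (Fin 2) F) *ᵥ Pi.single 0 1 = ![s, 0] ∧
      (d : Matrix (Fin 2) (Fin 2) F) *ᵥ Pi.single 1 1 = ![0, t] := fun s t hs ht =>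
    ⟨Matrix.GeneralLinearGroup.mkOfDetNeZero !![s, 0; 0, t] (by simp [Matrix.det_fin_two, hs, ht]),
      by funext i; fin_cases i <;> simp, by funext i; fin_cases i <;> simp⟩
  by_cases hp10 : p (1, 0) = 0
  · have hne : p (0, 1) * r (1, 0) = 1 := by rw [hp10, zero_mul] at e7; linear_combination -e7
    have hp01 : p (0, 1) ≠ 0 := fun h0 => zero_ne_one (by rwa [h0, zero_mul] at hne)
    have hr01 : r (0, 1) = 0 := by
      have h8 : (2 : F) * (r (1, 0) * r (0, 1)) = 0 := by linear_combination -e6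
      exact (mul_eq_zero.mp ((mul_eq_zero.mp h8).resolve_left h2)).resolve_left fun h0 =>
        zero_ne_one (by rwa [h0, mul_zero] at hne)
    obtain ⟨da, ha0, ha1⟩ := hdg 1 (p (0, 1))⁻¹ one_ne_zero (inv_ne_zero hp01)
    obtain ⟨db, hb0, hb1⟩ := hdg 1 (p (0, 1)) one_ne_zero hp01
    have hr10 : r (1, 0) = (p (0, 1))⁻¹ := eq_inv_of_mul_eq_one_right hne
    refine ⟨X * da, Y * db, Or.inl fun z => ?_⟩
    rw [Units.val_mul, Units.val_mul, ← Matrix.mulVec_mulVec, ← Matrix.mulVec_mulVec, ← kron_mulVec_pvec, ← hT]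
    obtain ⟨i, j⟩ := z
    fin_cases i <;> fin_cases j
    · show C *ᵥ Pi.single ((0 : Fin 2), (0 : Fin 2)) 1 = _
      rw [← hT00]; congr 1; funext q; obtain ⟨k, l⟩ := q
      simp [pvec, ha0, hb0]; fin_cases k <;> fin_cases l <;> simp
    · show C *ᵥ Pi.single ((0 : Fin 2), (1 : Fin 2)) 1 = _
      rw [← hTp]; congr 1; funext q; obtain ⟨k, l⟩ := q
      simp [pvec, ha0, hb1]; fin_cases k <;> fin_cases l <;> simp [e1, e2, hp10]
    · show C *ᵥ Pi.single ((1 : Fin 2), (0 : Fin 2)) 1 = _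
      rw [← hTr]; congr 1; funext q; obtain ⟨k, l⟩ := q
      simp [pvec, ha1, hb0]; fin_cases k <;> fin_cases l <;> simp [e4, e5, hr01, hr10]
    · show C *ᵥ Pi.single ((1 : Fin 2), (1 : Fin 2)) 1 = _
      rw [← hT11]; congr 1; funext q; obtain ⟨k, l⟩ := q
      simp [pvec, ha1, hb1]; fin_cases k <;> fin_cases l <;> simp [hp01]
  · have hp01 : p (0, 1) = 0 := by
      have h8 : (2 : F) * (p (1, 0) * p (0, 1)) = 0 := by linear_combination -e3
      exact (mul_eq_zero.mp ((mul_eq_zero.mp h8).resolve_left h2)).resolve_left hp10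
    have hne : p (1, 0) * r (0, 1) = 1 := by rw [hp01, zero_mul] at e7; linear_combination -e7
    have hr10 : r (1, 0) = 0 := by
      have h8 : (2 : F) * (r (0, 1) * r (1, 0)) = 0 := by linear_combination -e6
      exact (mul_eq_zero.mp ((mul_eq_zero.mp h8).resolve_left h2)).resolve_left fun h0 =>
        zero_ne_one (by rwa [h0, mul_zero] at hne)
    obtain ⟨da, ha0, ha1⟩ := hdg 1 (p (1, 0)) one_ne_zero hp10
    obtain ⟨db, hb0, hb1⟩ := hdg 1 (p (1, 0))⁻¹ one_ne_zero (inv_ne_zero hp10)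
    have hr01 : r (0, 1) = (p (1, 0))⁻¹ := eq_inv_of_mul_eq_one_right hne
    refine ⟨X * da, Y * db, Or.inr fun z => ?_⟩
    rw [Units.val_mul, Units.val_mul, ← Matrix.mulVec_mulVec, ← Matrix.mulVec_mulVec, ← kron_mulVec_pvec, ← hT]
    obtain ⟨i, j⟩ := z
    fin_cases i <;> fin_cases j
    · show C *ᵥ Pi.single ((0 : Fin 2), (0 : Fin 2)) 1 = _
      rw [← hT00]; congr 1; funext q; obtain ⟨k, l⟩ := q
      simp [pvec, ha0, hb0]; fin_cases k <;> fin_cases l <;> simp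
    · show C *ᵥ Pi.single ((0 : Fin 2), (1 : Fin 2)) 1 = _
      rw [← hTp]; congr 1; funext q; obtain ⟨k, l⟩ := q
      simp [pvec, ha1, hb0]; fin_cases k <;> fin_cases l <;> simp [e1, e2, hp01]
    · show C *ᵥ Pi.single ((1 : Fin 2), (0 : Fin 2)) 1 = _
      rw [← hTr]; congr 1; funext q; obtain ⟨k, l⟩ := q
      simp [pvec, ha0, hb1]; fin_cases k <;> fin_cases l <;> simp [e4, e5, hr01, hr10]
    · show C *ᵥ Pi.single ((1 : Fin 2), (1 : Fin 2)) 1 = _
      rw [← hT11]; congr 1; funext q; obtain ⟨k, l⟩ := q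
      simp [pvec, ha1, hb1]; fin_cases k <;> fin_cases l <;> simp [hp10]

/-- A four-dimensional symmetric form of plus type has a basis in which it is the product of two forms in dimension
two. -/
theorem exists_plus_frame (h2 : (2 : F) ≠ 0) {f : (Fin 4 → F) → (Fin 4 → F) → F} (hf : Geo.IsSymmetricForm f)
    (hplus : Geo.IsPlusTypeOn (fun v : Fin 4 → F => f v v) ⊤) :
    ∃ v : Fin 2 × Fin 2 → (Fin 4 → F), ∀ p q, f (v p) (v q) = (J2 : Matrix (Fin 2) (Fin 2) F) p.1 q.1 * J2 p.2 q.2 := by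
  obtain ⟨U, -, hU, hdim⟩ := hplus
  rw [finrank_top, Module.finrank_pi, Fintype.card_fin] at hdim
  have hUd : finrank F U = 2 := by omega
  have hUU : ∀ a ∈ U, ∀ b ∈ U, f a b = 0 := by
    intro a ha b hb
    have h1 := hU (a + b) (add_mem ha hb)
    simp only [hf.bilinear.add_left, hf.bilinear.add_right, show f a a = 0 from hU a ha, show f b b = 0 from hU b hb,
      hf.symm b a, zero_add, add_zero, ← two_mul] at h1
    exact (mul_eq_zero.mp h1).resolve_left h2
  let b := Module.finBasisOfFinrankEq F U hUd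
  let L : (Fin 4 → F) →ₗ[F] (Fin 2 → F) := LinearMap.pi fun i => MaxSub.rmap hf.bilinear (b i : Fin 4 → F)
  have hsur : Function.Surjective L := by
    have hker : LinearMap.ker L = MaxSub.orth hf.bilinear U := by
      ext w
      refine ⟨fun h => MaxSub.mem_orth.mpr fun u hu => ?_, fun h => LinearMap.mem_ker.mpr (funext fun i => ?_)⟩
      · rw [show (u : Fin 4 → F) = ((⟨u, hu⟩ : U) : Fin 4 → F) from rfl, ← b.sum_repr ⟨u, hu⟩, Submodule.coe_sum,
          ← MaxSub.rmap_apply hf.bilinear, map_sum]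
        refine Finset.sum_eq_zero fun i _ => ?_
        have := congrFun (LinearMap.mem_ker.mp h) i
        simp [L] at this
        simp [hf.symm w, this]
      · simp [L, hf.symm (b i : Fin 4 → F) w, MaxSub.mem_orth.mp h _ (b i).2]
    have h1 := LinearMap.finrank_range_add_finrank_ker L
    have h3 := MaxSub.finrank_orth hf.bilinear hf.nondegenerate U
    rw [hker, Module.finrank_pi, Fintype.card_fin] at h1
    rw [Fintype.card_fin] at h3
    refine LinearMap.range_eq_top.mp (Submodule.eq_top_of_finrank_eq ?_)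
    rw [Module.finrank_pi, Fintype.card_fin]
    omega
  obtain ⟨a, ha⟩ := hsur ![1, 0]
  obtain ⟨c, hc⟩ := hsur ![0, 1]
  set u0 : Fin 4 → F := (b 0 : Fin 4 → F) with hu0
  set u1 : Fin 4 → F := (b 1 : Fin 4 → F) with hu1
  have k0a : f u0 a = 1 := by simpa [L, hu0] using congrFun ha 0
  have k1a : f u1 a = 0 := by simpa [L, hu1] using congrFun ha 1
  have k0c : f u0 c = 0 := by simpa [L, hu0] using congrFun hc 0
  have k1c : f u1 c = 1 := by simpa [L, hu1] using congrFun hc 1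
  have k00 : f u0 u0 = 0 := hUU _ (b 0).2 _ (b 0).2
  have k01 : f u0 u1 = 0 := hUU _ (b 0).2 _ (b 1).2
  have k11 : f u1 u1 = 0 := hUU _ (b 1).2 _ (b 1).2
  set a' := a + (-(f a a) / 2) • u0 with ha'
  set c' := c + (-(f c c) / 2) • u1 + (-(f a c)) • u0 with hc'
  refine ⟨fun p => ![![u0, u1], ![-c', a']] p.1 p.2, fun p q => ?_⟩
  obtain ⟨i, j⟩ := p
  obtain ⟨k, l⟩ := q
  have hneg : ∀ x y : Fin 4 → F, f (-x) y = - f x y ∧ f x (-y) = - f x y := fun x y =>
    ⟨map_neg (MaxSub.lmap hf.bilinear y) x, MaxSub.form_neg_right hf.bilinear x y⟩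
  fin_cases i <;> fin_cases j <;> fin_cases k <;> fin_cases l <;>
    simp [J2, ha', hc', fun x y => (hneg x y).1, fun x y => (hneg x y).2, hf.bilinear.add_left, hf.bilinear.add_right,
      hf.bilinear.smul_left, hf.bilinear.smul_right, k00, k01, k11, k0a, k1a, k0c, k1c, hf.symm a u0, hf.symm a u1,
      hf.symm c u0, hf.symm c u1, hf.symm u1 u0, hf.symm c a] <;> (try field_simp) <;> ring

variable [Fintype F] {m : ℕ}

/-- The plus type does not occur. -/
theorem tensor_plus {H : Subgroup (GL (Fin m ⊕ Fin m) F)} (hm : 1 ≤ m) (hH : Geo.IsMaximalIn (spGL m F) H)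
    (hodd : Odd (Fintype.card F)) {e : (Fin m ⊕ Fin m) ≃ Fin 2 × Fin 4} {P : GL (Fin m ⊕ Fin m) F}
    {f₁ : (Fin 2 → F) → (Fin 2 → F) → F} {f₂ : (Fin 4 → F) → (Fin 4 → F) → F} (hf₁ : Geo.IsSymplecticForm f₁)
    (hf₂ : Geo.IsSymmetricForm f₂) (hS : Geo.IsTensorFormStructure id (sympForm m F) f₁ f₂ e P)
    (hHeq : H = Geo.tensorProductSubgroup 2 4 e P ⊓ spGL m F)
    (hplus : Geo.IsPlusTypeOn (fun v : Fin 4 → F => f₂ v v) ⊤) : False := by
  classical
  have h2 := two_ne_zero_of_odd hodd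
  have hf := MaxSub.isSymplecticForm_sympForm (m := m) (F := F)
  obtain ⟨G₁, G₂, hgram, hG₂, hG₁alt, hform⟩ := exists_tensor_gram hm two_pos four_pos hf₁ hf₂ hS
  obtain ⟨v, hv⟩ := exists_plus_frame h2 hf₂ hplus
  -- the first factor is a multiple of the standard form
  set s := (G₁ : Matrix (Fin 2) (Fin 2) F) 0 1 with hs
  have hG₁J : (G₁ : Matrix (Fin 2) (Fin 2) F) = s • J2 := by
    have d0 := hG₁alt (Pi.single 0 1)
    have d1 := hG₁alt (Pi.single 1 1)
    have d01 := hG₁alt (Pi.single 0 1 + Pi.single 1 1)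
    simp [gramForm, Matrix.mulVec, dotProduct, Fin.sum_univ_two] at d0 d1 d01
    ext i j
    fin_cases i <;> fin_cases j <;> simp [J2, hs, d0, d1]
    linear_combination d01 - d0 - d1
  have hs0 : s ≠ 0 := fun h0 => G₁.ne_zero (by rw [hG₁J, h0, zero_smul])
  have hG₁single : ∀ i k, gramForm (G₁ : Matrix (Fin 2) (Fin 2) F) (Pi.single i 1) (Pi.single k 1) = s * J2 i k := by
    intro i k
    rw [hG₁J]
    simp [gramForm]
  -- the new frame
  let w : (Fin 3 → Fin 2) → (Fin m ⊕ Fin m → F) := fun z =>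
    (P : Matrix (Fin m ⊕ Fin m) (Fin m ⊕ Fin m) F) *ᵥ (pvec (Pi.single (z 0) 1) (v (z 1, z 2)) ∘ e)
  have hw : ∀ z z', sympForm m F (w z) (w z') = s * MaxSub.Asch.powGram F 3 z z' := by
    intro z z'
    show sympForm m F ((P : Matrix (Fin m ⊕ Fin m) (Fin m ⊕ Fin m) F) *ᵥ _) ((P : Matrix (Fin m ⊕ Fin m) (Fin m ⊕ Fin m) F) *ᵥ _) = _
    rw [hform, hv, hG₁single, MaxSub.Asch.powGram, tens_apply, Fin.prod_univ_three]
    ring
  have hcard : Fintype.card (Fin m ⊕ Fin m) = Fintype.card (Fin 3 → Fin 2) := by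
    rw [Fintype.card_congr e]; simp
  let e' : (Fin m ⊕ Fin m) ≃ (Fin 3 → Fin 2) := Fintype.equivOfCardEq hcard
  let S : Matrix (Fin m ⊕ Fin m) (Fin m ⊕ Fin m) F := Matrix.of fun i k => w (e' k) i
  have hSw : ∀ x : (Fin 3 → Fin 2) → F, S *ᵥ (x ∘ e') = ∑ z, x z • w z := by
    intro x
    funext i
    simp only [Matrix.mulVec, dotProduct, S, Matrix.of_apply, Function.comp_apply, Finset.sum_apply, Pi.smul_apply,
      smul_eq_mul]
    rw [← e'.sum_comp fun z => x z * w z i]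
    exact Finset.sum_congr rfl fun k _ => mul_comm _ _
  have hfS : ∀ x y : (Fin 3 → Fin 2) → F, sympForm m F (S *ᵥ (x ∘ e')) (S *ᵥ (y ∘ e')) =
      s * gramForm (MaxSub.Asch.powGram F 3) x y := by
    intro x y
    rw [hSw, hSw, ← MaxSub.lmap_apply hf.bilinear, map_sum]
    simp only [MaxSub.lmap_apply, gramForm, dotProduct, Matrix.mulVec, Finset.mul_sum]
    refine Finset.sum_congr rfl fun z _ => ?_
    rw [← MaxSub.rmap_apply hf.bilinear, map_sum]
    refine Finset.sum_congr rfl fun z' _ => ?_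
    rw [MaxSub.rmap_apply, hf.bilinear.smul_left, hf.bilinear.smul_right, hw]
    ring
  have hSdet : S.det ≠ 0 := by
    intro h0
    obtain ⟨x, hx, hSx⟩ := Matrix.exists_mulVec_eq_zero_iff.mpr h0
    set x' : (Fin 3 → Fin 2) → F := fun z => x (e'.symm z) with hx'
    have hxe : x' ∘ e' = x := funext fun i => by simp [hx']
    obtain ⟨u, hu⟩ := MaxSub.Asch.powGram_isUnit (F := F) (t := 3)
    have hx'0 : x' ≠ 0 := fun h => hx (by rw [← hxe, h]; rfl)
    obtain ⟨y, hy⟩ := MaxSub.exists_dotProduct_ne_zero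
      (φ := MaxSub.Asch.powGram F 3 *ᵥ x') (by rw [← hu]; exact MaxSub.mulVec_ne_zero u hx'0)
    have h1 := hfS y x'
    rw [hxe, hSx, MaxSub.form_zero_right hf.bilinear, gramForm, dotProduct_comm] at h1
    exact mul_ne_zero hs0 hy h1.symm
  set P' := Matrix.GeneralLinearGroup.mkOfDetNeZero S hSdet with hP'
  have hP'v : ∀ x : (Fin 3 → Fin 2) → F, (P' : Matrix (Fin m ⊕ Fin m) (Fin m ⊕ Fin m) F) *ᵥ (x ∘ e') = ∑ z, x z • w z :=
    hSw
  have hP'single : ∀ z, (P' : Matrix (Fin m ⊕ Fin m) (Fin m ⊕ Fin m) F) *ᵥ ((Pi.single z (1 : F)) ∘ e') = w z := by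
    intro z
    rw [hP'v, Finset.sum_eq_single z (fun z' _ h => by rw [Pi.single_eq_of_ne h, zero_smul]) (by simp),
      Pi.single_eq_same, one_smul]
  -- equality of matrices on the frame
  have hext : ∀ {g : GL (Fin m ⊕ Fin m) F} {h : Matrix (Fin 3 → Fin 2) (Fin 3 → Fin 2) F},
      (∀ z, (g : Matrix (Fin m ⊕ Fin m) (Fin m ⊕ Fin m) F) *ᵥ w z = ∑ z', h z' z • w z') →
      (g : Matrix (Fin m ⊕ Fin m) (Fin m ⊕ Fin m) F) = tr e' P' h := by
    intro g h hgh
    have key : ∀ i, (g : Matrix (Fin m ⊕ Fin m) (Fin m ⊕ Fin m) F) *ᵥ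
        ((P' : Matrix (Fin m ⊕ Fin m) (Fin m ⊕ Fin m) F) *ᵥ Pi.single i 1) =
        tr e' P' h *ᵥ ((P' : Matrix (Fin m ⊕ Fin m) (Fin m ⊕ Fin m) F) *ᵥ Pi.single i 1) := by
      intro i
      have hi : (Pi.single i (1 : F) : Fin m ⊕ Fin m → F) = (Pi.single (e' i) 1) ∘ e' :=
        funext fun k => by simp [Pi.single_apply]
      rw [hi, tr_mulVec, hP'single, hgh, hP'v]
      exact Finset.sum_congr rfl fun z' _ => by rw [Matrix.mulVec_single_one]; rfl
    exact (Units.mul_left_inj P').mp (Matrix.ext_of_mulVec_single fun i => by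
      rw [← Matrix.mulVec_mulVec, key, Matrix.mulVec_mulVec])
  -- containment in the stabiliser of the tensor cube
  have hle : H ≤ Geo.tensorWreathSubgroup 2 3 e' P' := by
    intro g hg
    rw [hHeq] at hg
    obtain ⟨A, B, c, hc0, hgv, -, hB⟩ := exists_factors (inf_le_right) two_pos four_pos inf_le_left hgram g hg
    have hBform : ∀ x y, f₂ ((B : Matrix (Fin 4) (Fin 4) F) *ᵥ x) ((B : Matrix (Fin 4) (Fin 4) F) *ᵥ y) = c⁻¹ * f₂ x y := by
      intro x y
      rw [← hG₂, ← hG₂, gramForm, gramForm, ← smul_eq_mul, ← dotProduct_smul, ← Matrix.smul_mulVec, ← hB,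
        Matrix.mulVec_mulVec, Matrix.mul_assoc (B : Matrix (Fin 4) (Fin 4) F)ᵀ,
        ← Matrix.mulVec_mulVec y _ ((G₂ : Matrix (Fin 4) (Fin 4) F) * _), Matrix.dotProduct_mulVec x, Matrix.vecMul_transpose]
    -- coordinates of the second factor in the frame
    have hspan : ∀ x : Fin 4 → F, ∃ C : Fin 2 × Fin 2 → F, x = ∑ p, C p • v p := by
      have hli : LinearIndependent F v := by
        rw [Fintype.linearIndependent_iff]
        intro γ hγ p
        obtain ⟨i, j⟩ := p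
        have h1 : ∑ q, γ q * f₂ (v q) (v (1 - i, 1 - j)) = 0 := by
          calc ∑ q, γ q * f₂ (v q) (v (1 - i, 1 - j)) = MaxSub.lmap hf₂.bilinear (v (1 - i, 1 - j)) (∑ q, γ q • v q) := by
                rw [map_sum]; simp
            _ = 0 := by rw [hγ, map_zero]
        simp only [hv, Fintype.sum_prod_type, Fin.sum_univ_two] at h1
        fin_cases i <;> fin_cases j <;> simpa [J2] using h1
      intro x
      let bb := basisOfLinearIndependentOfCardEqFinrank hli (by simp)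
      exact ⟨bb.equivFun x, by conv_lhs => rw [← bb.sum_equivFun x]
                               simp [bb]⟩
    choose C hC using fun p => hspan ((B : Matrix (Fin 4) (Fin 4) F) *ᵥ v p)
    set Cm : Matrix (Fin 2 × Fin 2) (Fin 2 × Fin 2) F := Matrix.of fun q p => C p q with hCm
    have hBC : ∀ x : Fin 2 × Fin 2 → F, (B : Matrix (Fin 4) (Fin 4) F) *ᵥ (∑ p, x p • v p) = ∑ q, (Cm *ᵥ x) q • v q := by
      intro x
      rw [Matrix.mulVec_sum]
      simp only [Matrix.mulVec_smul, hC, Finset.smul_sum, smul_smul]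
      rw [Finset.sum_comm]
      refine Finset.sum_congr rfl fun q _ => ?_
      rw [← Finset.sum_smul]
      congr 1
      simp [hCm, Matrix.mulVec, dotProduct, mul_comm]
    have hfv : ∀ x y : Fin 2 × Fin 2 → F, f₂ (∑ p, x p • v p) (∑ q, y q • v q) =
        gramForm ((J2 : Matrix (Fin 2) (Fin 2) F) ⊗ₖ J2) x y := by
      intro x y
      rw [← MaxSub.lmap_apply hf₂.bilinear, map_sum]
      simp only [MaxSub.lmap_apply, gramForm, dotProduct, Matrix.mulVec, Finset.mul_sum]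
      refine Finset.sum_congr rfl fun p _ => ?_
      rw [← MaxSub.rmap_apply hf₂.bilinear, map_sum]
      refine Finset.sum_congr rfl fun q _ => ?_
      rw [MaxSub.rmap_apply, hf₂.bilinear.smul_left, hf₂.bilinear.smul_right, hv, Matrix.kroneckerMap_apply]
      ring
    obtain ⟨a₁, a₂, hsplit⟩ := similitude_J2_pair h2 (C := Cm) (inv_ne_zero hc0) (fun x y => by
      rw [← hfv, ← hfv, ← hBC, ← hBC, hBform])
    have hgw : ∀ z, (g : Matrix (Fin m ⊕ Fin m) (Fin m ⊕ Fin m) F) *ᵥ w z =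
        ∑ z', ((A : Matrix (Fin 2) (Fin 2) F) (z' 0) (z 0) * Cm (z' 1, z' 2) (z 1, z 2)) • w z' := by
      intro z
      show (g : Matrix (Fin m ⊕ Fin m) (Fin m ⊕ Fin m) F) *ᵥ ((P : Matrix (Fin m ⊕ Fin m) (Fin m ⊕ Fin m) F) *ᵥ _) = _
      rw [hgv, tr_mulVec, kron_mulVec_pvec, hC]
      have h1 : pvec ((A : Matrix (Fin 2) (Fin 2) F) *ᵥ Pi.single (z 0) 1) (∑ q, C (z 1, z 2) q • v q) =
          ∑ z' : Fin 3 → Fin 2, ((A : Matrix (Fin 2) (Fin 2) F) (z' 0) (z 0) * Cm (z' 1, z' 2) (z 1, z 2)) •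
            pvec (Pi.single (z' 0) (1 : F)) (v (z' 1, z' 2)) := by
        let τ : (Fin 2 × Fin 2 × Fin 2) ≃ (Fin 3 → Fin 2) :=
          { toFun := fun q => ![q.1, q.2.1, q.2.2]
            invFun := fun z => (z 0, z 1, z 2)
            left_inv := fun q => by simp
            right_inv := fun z => funext fun i => by fin_cases i <;> simp }
        rw [← τ.sum_comp]
        funext ⟨i, k⟩
        simp [τ, hCm, pvec, Finset.sum_apply, Fintype.sum_prod_type, Fin.sum_univ_two]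
        fin_cases i <;> simp <;> ring
      rw [h1, show (∑ z' : Fin 3 → Fin 2, ((A : Matrix (Fin 2) (Fin 2) F) (z' 0) (z 0) * Cm (z' 1, z' 2) (z 1, z 2)) •
            pvec (Pi.single (z' 0) (1 : F)) (v (z' 1, z' 2))) ∘ e = ∑ z' : Fin 3 → Fin 2,
            ((A : Matrix (Fin 2) (Fin 2) F) (z' 0) (z 0) * Cm (z' 1, z' 2) (z 1, z 2)) •
            (pvec (Pi.single (z' 0) (1 : F)) (v (z' 1, z' 2)) ∘ e) from funext fun i => by simp [Finset.sum_apply],
        Matrix.mulVec_sum]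
      simp only [Matrix.mulVec_smul]
      rfl
    rcases hsplit with hsplit | hsplit
    · refine mem_transport e' P' (h := tensGL ![A, a₁, a₂]) (Subgroup.subset_closure (Or.inl ⟨![A, a₁, a₂], fun x y => rfl⟩))
        (hext fun z => (hgw z).trans (Finset.sum_congr rfl fun z' _ => ?_))
      congr 1
      have h3 := congrFun (hsplit (z 1, z 2)) (z' 1, z' 2)
      simp [pvec] at h3
      show _ = tens _ z' z
      rw [tens_apply, Fin.prod_univ_three, h3]
      simp [mul_assoc]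
    · refine mem_transport e' P' (h := tensGL ![A, a₁, a₂] * factorPerm (Equiv.swap 1 2))
        (mul_mem (Subgroup.subset_closure (Or.inl ⟨![A, a₁, a₂], fun x y => rfl⟩))
          (Subgroup.subset_closure (Or.inr ⟨Equiv.swap 1 2, fun x y => rfl⟩)))
        (hext fun z => (hgw z).trans (Finset.sum_congr rfl fun z' _ => ?_))
      congr 1
      have h3 := congrFun (hsplit (z 1, z 2)) (z' 1, z' 2)
      simp [pvec] at h3
      rw [Units.val_mul, Matrix.mul_apply, Finset.sum_eq_single (z ∘ Equiv.swap (1 : Fin 3) 2)]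
      · show _ = tens _ z' _ * (if z = (z ∘ Equiv.swap (1 : Fin 3) 2) ∘ Equiv.swap (1 : Fin 3) 2 then (1 : F) else 0)
        rw [if_pos (by funext i; simp), tens_apply, Fin.prod_univ_three, h3]
        simp [mul_assoc, Equiv.swap_apply_of_ne_of_ne]
      · intro u _ hu
        show _ * (if z = u ∘ Equiv.swap (1 : Fin 3) 2 then (1 : F) else 0) = 0
        rw [if_neg (fun h => hu (by rw [h]; funext i; simp)), mul_zero]
      · simp
  have hHw := eq_inf_of_maximal hH hle (sp_not_le_tensorWreathSubgroup le_rfl (by norm_num) e' P')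
  -- the exchange of the first two factors
  set σ : Equiv.Perm (Fin 3) := Equiv.swap 0 1 with hσ
  let g : GL (Fin m ⊕ Fin m) F := MulAut.conj P' (Geo.glReindex e'.symm (factorPerm σ))
  have hgv : (g : Matrix (Fin m ⊕ Fin m) (Fin m ⊕ Fin m) F) = tr e' P' ((factorPerm σ : GL (Fin 3 → Fin 2) F) : Matrix (Fin 3 → Fin 2) (Fin 3 → Fin 2) F) :=
    MaxSub.Asch.tr_eq_conj_glReindex e' P' _
  have hgw : ∀ z, (g : Matrix (Fin m ⊕ Fin m) (Fin m ⊕ Fin m) F) *ᵥ w z = w (z ∘ σ) := by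
    intro z
    rw [← hP'single z, hgv, tr_mulVec, hP'v]
    rw [Finset.sum_eq_single (z ∘ σ)]
    · rw [show (((factorPerm σ : GL (Fin 3 → Fin 2) F) : Matrix (Fin 3 → Fin 2) (Fin 3 → Fin 2) F) *ᵥ Pi.single z 1) (z ∘ σ) = 1 by
        rw [Matrix.mulVec_single_one]
        show (if z = (z ∘ σ) ∘ σ then (1 : F) else 0) = 1
        rw [if_pos]; funext i; simp [hσ], one_smul]
    · intro z' _ hz'
      rw [show (((factorPerm σ : GL (Fin 3 → Fin 2) F) : Matrix (Fin 3 → Fin 2) (Fin 3 → Fin 2) F) *ᵥ Pi.single z 1) z' = 0 by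
        rw [Matrix.mulVec_single_one]
        show (if z = z' ∘ σ then (1 : F) else 0) = 0
        rw [if_neg]; intro h; exact hz' (by rw [h]; funext i; simp [hσ]), zero_smul]
    · simp
  have hgI : g ∈ spGL m F := by
    refine MaxSub.Asch.mem_spGL.mpr fun x y => ?_
    have hbasis : ∀ x, ∃ c : (Fin 3 → Fin 2) → F, x = ∑ z, c z • w z := fun x => by
      refine ⟨fun z => (((P'⁻¹ : GL (Fin m ⊕ Fin m) F) : Matrix (Fin m ⊕ Fin m) (Fin m ⊕ Fin m) F) *ᵥ x) (e'.symm z), ?_⟩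
      rw [← hP'v]
      conv_lhs => rw [← MaxSub.mulVec_inv_mulVec P' x]
      congr 1
      funext i
      simp
    obtain ⟨cx, rfl⟩ := hbasis x
    obtain ⟨cy, rfl⟩ := hbasis y
    simp only [Matrix.mulVec_sum, Matrix.mulVec_smul, hgw]
    simp only [← MaxSub.lmap_apply hf.bilinear, map_sum, map_smul]
    simp only [MaxSub.lmap_apply, ← MaxSub.rmap_apply hf.bilinear, map_sum, map_smul]
    simp only [MaxSub.rmap_apply, hw]
    refine Finset.sum_congr rfl fun z _ => ?_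
    congr 1
    refine Finset.sum_congr rfl fun z' _ => ?_
    congr 2
    simp only [MaxSub.Asch.powGram, tens_apply, Function.comp_apply]
    exact Equiv.prod_comp σ fun i => (J2 : Matrix (Fin 2) (Fin 2) F) (z i) (z' i)
  have hgH : g ∈ H := by
    rw [hHw]
    exact ⟨mem_transport e' P' (Subgroup.subset_closure (Or.inr ⟨σ, fun x y => rfl⟩)) hgv, hgI⟩
  rw [hHeq] at hgH
  obtain ⟨A, B, c, -, hgAB, -, -⟩ := exists_factors (inf_le_right) two_pos four_pos inf_le_left hgram g hgH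
  have hkey : ∀ z : Fin 3 → Fin 2, pvec ((A : Matrix (Fin 2) (Fin 2) F) *ᵥ Pi.single (z 0) 1) ((B : Matrix (Fin 4) (Fin 4) F) *ᵥ v (z 1, z 2)) =
      pvec (Pi.single (z (σ 0)) (1 : F)) (v (z (σ 1), z (σ 2))) := by
    intro z
    apply comp_mulVec_inj e P
    rw [← kron_mulVec_pvec, ← tr_mulVec, ← hgAB]
    exact hgw z
  have hvne : ∀ p, v p ≠ 0 := by
    intro p hp
    have h1 := hv p (1 - p.1, 1 - p.2)
    rw [hp, MaxSub.form_zero_left hf₂.bilinear] at h1
    obtain ⟨i, j⟩ := p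
    fin_cases i <;> fin_cases j <;> simp [J2] at h1
  -- the mixed vector
  have k1 := hkey ![0, 1, 0]
  have k2 := hkey ![0, 0, 0]
  simp [hσ, Equiv.swap_apply_of_ne_of_ne] at k1 k2
  obtain ⟨i, hi⟩ := Function.ne_iff.mp (MaxSub.mulVec_ne_zero B (hvne (1, 0)))
  obtain ⟨j, hj⟩ := Function.ne_iff.mp (hvne (0, 0))
  have c1 := congrFun k1 (0, i)
  have c2 := congrFun k2 (0, j)
  simp [pvec] at c1 c2 hi hj
  rcases c1 with c1 | c1
  · exact hj (by rw [← c2, c1, zero_mul])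
  · exact hi c1

end Cfsg.Agent.Aschbacher
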