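import Cfsg.Agent.Aschbacher.Symp.Cases

/-!
Tensor decompositions of a symplectic form in coordinates, and the exception over the field with three elements: a
three-dimensional orthogonal factor permutes the lines of an orthogonal frame.
-/

set_option autoImplicit false
set_option linter.unusedSectionVars false
set_option linter.style.haveILetI false

namespace Cfsg.Agent.Aschbacher

open scoped MatrixGroups Matrix Kronecker
open Module
open Cfsg.Agent.MaxSub.Asch (tr spData spData_form FormData gramForm exists_factors)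

variable {F : Type*} [Field F]

/-- The pure tensor of two vectors. -/
def pvec {a b : ℕ} (x : Fin a → F) (u : Fin b → F) : Fin a × Fin b → F := fun p => x p.1 * u p.2

theorem kron_mulVec_pvec {a b : ℕ} (A : Matrix (Fin a) (Fin a) F) (B : Matrix (Fin b) (Fin b) F) (x : Fin a → F)
    (u : Fin b → F) : (A ⊗ₖ B) *ᵥ pvec x u = pvec (A *ᵥ x) (B *ᵥ u) := by
  funext ⟨i, j⟩
  simp only [Matrix.mulVec, dotProduct, pvec, Matrix.kroneckerMap_apply, Fintype.sum_prod_type, Finset.sum_mul_sum]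
  exact Finset.sum_congr rfl fun k _ => Finset.sum_congr rfl fun l _ => by ring

theorem gramForm_kron_pvec {a b : ℕ} (A : Matrix (Fin a) (Fin a) F) (B : Matrix (Fin b) (Fin b) F) (x y : Fin a → F)
    (u w : Fin b → F) : gramForm (A ⊗ₖ B) (pvec x u) (pvec y w) = gramForm A x y * gramForm B u w := by
  simp only [gramForm, kron_mulVec_pvec]
  simp only [dotProduct, pvec, Fintype.sum_prod_type, Finset.sum_mul_sum]
  exact Finset.sum_congr rfl fun k _ => Finset.sum_congr rfl fun l _ => by ring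

variable [Fintype F] {m : ℕ}

/-- A tensor structure in coordinates. -/
theorem exists_tensor_gram (hm : 1 ≤ m) {a b : ℕ} (ha : 0 < a) (hb : 0 < b) {e : (Fin m ⊕ Fin m) ≃ Fin a × Fin b}
    {P : GL (Fin m ⊕ Fin m) F} {f₁ : (Fin a → F) → (Fin a → F) → F} {f₂ : (Fin b → F) → (Fin b → F) → F}
    (hf₁ : Geo.IsSymplecticForm f₁) (hf₂ : Geo.IsSymmetricForm f₂)
    (hS : Geo.IsTensorFormStructure id (sympForm m F) f₁ f₂ e P) :
    ∃ (G₁ : GL (Fin a) F) (G₂ : GL (Fin b) F),
      (((spData m F).transport e P).gram : Matrix (Fin a × Fin b) (Fin a × Fin b) F) =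
        (G₁ : Matrix (Fin a) (Fin a) F) ⊗ₖ (G₂ : Matrix (Fin b) (Fin b) F) ∧
      (∀ x y, gramForm (G₂ : Matrix (Fin b) (Fin b) F) x y = f₂ x y) ∧
      (∀ x, gramForm (G₁ : Matrix (Fin a) (Fin a) F) x x = 0) ∧
      ∀ x y u w, sympForm m F ((P : Matrix (Fin m ⊕ Fin m) (Fin m ⊕ Fin m) F) *ᵥ (pvec x u ∘ e))
        ((P : Matrix (Fin m ⊕ Fin m) (Fin m ⊕ Fin m) F) *ᵥ (pvec y w ∘ e)) =
          gramForm (G₁ : Matrix (Fin a) (Fin a) F) x y * f₂ u w := by
  haveI : Nonempty (Fin m ⊕ Fin m) := ⟨Sum.inl ⟨0, hm⟩⟩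
  haveI : Nonempty (Fin a) := ⟨⟨0, ha⟩⟩
  haveI : Nonempty (Fin b) := ⟨⟨0, hb⟩⟩
  obtain ⟨c, hc0, hc⟩ := hS
  have hg1 := exists_gram (RingHom.id F) f₁ hf₁.bilinear.add_left hf₁.bilinear.smul_left hf₁.bilinear.add_right
    (fun c v x => hf₁.bilinear.smul_right c v x)
  have hg2 := exists_gram (RingHom.id F) f₂ hf₂.bilinear.add_left hf₂.bilinear.smul_left hf₂.bilinear.add_right
    (fun c v x => hf₂.bilinear.smul_right c v x)
  have hu1 := gram_isUnit hg1 hf₁.nondegenerate
  have hu2 := gram_isUnit hg2 hf₂.nondegenerate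
  obtain ⟨G₂, hG₂⟩ := hu2
  have hu1' : IsUnit (c • Geo.gramMatrix f₁) := by
    rw [← smul_one_mul c (Geo.gramMatrix f₁)]
    refine IsUnit.mul ?_ hu1
    rw [Matrix.isUnit_iff_isUnit_det, Matrix.det_smul, Matrix.det_one, mul_one]
    exact IsUnit.pow _ (IsUnit.mk0 c hc0)
  obtain ⟨G₁, hG₁⟩ := hu1'
  have hgram : (((spData m F).transport e P).gram : Matrix (Fin a × Fin b) (Fin a × Fin b) F) =
      (G₁ : Matrix (Fin a) (Fin a) F) ⊗ₖ (G₂ : Matrix (Fin b) (Fin b) F) := by
    ext p p'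
    have h1 := hc (Pi.single p 1) (Pi.single p' 1)
    rw [← spData_form, FormData.transport_form] at h1
    simp only [FormData.form, Geo.formOfGram] at h1
    rw [hG₁, hG₂]
    simpa [Matrix.kroneckerMap_apply, Pi.single_apply, apply_ite, Matrix.mulVec, dotProduct, mul_assoc] using h1
  have hf2' : ∀ x y, gramForm (G₂ : Matrix (Fin b) (Fin b) F) x y = f₂ x y := fun x y => by
    rw [hg2 x y, hG₂]; rfl
  refine ⟨G₁, G₂, hgram, hf2', fun x => ?_, fun x y u w => ?_⟩
  · have h1 : f₁ x x = x ⬝ᵥ (Geo.gramMatrix f₁ *ᵥ fun i => x i) := hg1 x x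
    rw [gramForm, hG₁, Matrix.smul_mulVec, dotProduct_smul, ← h1, hf₁.alternating, smul_zero]
  · rw [← spData_form, FormData.transport_form, ← hf2', ← gramForm_kron_pvec, ← hgram]
    rfl

/-- An orthogonal frame of a non-degenerate three-dimensional symmetric form over three elements, with one norm. -/
theorem exists_equal_frame (hq : Fintype.card F = 3) {f : (Fin 3 → F) → (Fin 3 → F) → F} (hf : Geo.IsSymmetricForm f) :
    ∃ (u : Module.Basis (Fin 3) F (Fin 3 → F)) (κ : F), κ ≠ 0 ∧ ∀ i j, f (u i) (u j) = if i = j then κ else 0 := by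
  classical
  have hodd : Odd (Fintype.card F) := by rw [hq]; decide
  have h2 := two_ne_zero_of_odd hodd
  haveI : Invertible (2 : F) := invertibleOfNonzero h2
  let B : LinearMap.BilinForm F (Fin 3 → F) := LinearMap.mk₂ F f hf.bilinear.add_left hf.bilinear.smul_left
    hf.bilinear.add_right hf.bilinear.smul_right
  have hsymm : LinearMap.IsSymm B := LinearMap.isSymm_def.mpr fun x y => hf.symm x y
  obtain ⟨v₀, hv₀⟩ := LinearMap.BilinForm.exists_orthogonal_basis hsymm
  let v : Module.Basis (Fin 3) F (Fin 3 → F) := v₀.reindex (finCongr (by simp))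
  have hv : ∀ i j, i ≠ j → f (v i) (v j) = 0 := fun i j hij => by
    simp only [v, Module.Basis.reindex_apply]
    exact hv₀ (fun e => hij ((finCongr _).symm.injective e))
  let d : Fin 3 → F := fun i => f (v i) (v i)
  have hd0 : ∀ i, d i ≠ 0 := by
    intro i h0
    obtain ⟨⟨x, hx⟩, -⟩ := hf.nondegenerate (v i) (v.ne_zero i)
    refine hx ?_
    rw [show f x (v i) = B x (v i) from rfl, ← v.sum_repr x, map_sum, LinearMap.sum_apply]
    refine Finset.sum_eq_zero fun j _ => ?_
    rw [map_smul, LinearMap.smul_apply, show B (v j) (v i) = f (v j) (v i) from rfl]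
    rcases eq_or_ne j i with rfl | hji
    · rw [show f (v j) (v j) = 0 from h0, smul_zero]
    · rw [hv j i hji, smul_zero]
  have hsq : ∀ c : F, c ≠ 0 → c = 1 ∨ c = -1 := fun c hc => by
    have h1 := FiniteField.pow_card_sub_one_eq_one c hc
    rw [hq] at h1
    exact sq_eq_one_iff.mp h1
  have h3 : (3 : F) = 0 := by
    have := Nat.cast_card_eq_zero F
    rw [hq] at this
    exact_mod_cast this
  have key : ∀ p q r : Fin 3, p ≠ q → r ≠ p → r ≠ q → d p = d q → d r = - d p →
      ∃ (u : Module.Basis (Fin 3) F (Fin 3 → F)) (κ : F), κ ≠ 0 ∧ ∀ i j, f (u i) (u j) = if i = j then κ else 0 := by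
    intro p q r hpq hrp hrq hdpq hdr
    let w : Fin 3 → (Fin 3 → F) := ![v p + v q, v p - v q, v r]
    have hw : ∀ i j, f (w i) (w j) = if i = j then d r else 0 := by
      have e1 : f (v p) (v q) = 0 := hv p q hpq
      have e2 : f (v q) (v p) = 0 := hv q p hpq.symm
      have e3 : f (v p) (v r) = 0 := hv p r hrp.symm
      have e4 : f (v r) (v p) = 0 := hv r p hrp
      have e5 : f (v q) (v r) = 0 := hv q r hrq.symm
      have e6 : f (v r) (v q) = 0 := hv r q hrq
      intro i j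
      fin_cases i <;> fin_cases j <;>
        simp [w, d, hf.bilinear.add_left, hf.bilinear.add_right, MaxSub.form_sub_left hf.bilinear,
          MaxSub.form_sub_right hf.bilinear, e1, e2, e3, e4, e5, e6] <;>
        simp only [d] at hdpq hdr
      · linear_combination (-1 : F) * hdpq - hdr + (f (v p) (v p)) * h3
      · linear_combination hdpq
      · linear_combination hdpq
      · linear_combination (-1 : F) * hdpq - hdr + (f (v p) (v p)) * h3
    have hli : LinearIndependent F w := by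
      rw [Fintype.linearIndependent_iff]
      intro g hg i
      have h1 : B (∑ j, g j • w j) (w i) = 0 := by rw [hg, map_zero, LinearMap.zero_apply]
      rw [map_sum, LinearMap.sum_apply, Finset.sum_eq_single i (fun j _ hj => by
        rw [map_smul, LinearMap.smul_apply, show B (w j) (w i) = f (w j) (w i) from rfl, hw, if_neg hj, smul_zero])
        (by simp), map_smul, LinearMap.smul_apply, show B (w i) (w i) = f (w i) (w i) from rfl, hw, if_pos rfl,
        smul_eq_mul] at h1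
      exact (mul_eq_zero.mp h1).resolve_right (hd0 r)
    refine ⟨basisOfLinearIndependentOfCardEqFinrank hli (by simp), d r, hd0 r, fun i j => ?_⟩
    simp only [coe_basisOfLinearIndependentOfCardEqFinrank]
    exact hw i j
  by_cases hall : d 0 = d 1 ∧ d 1 = d 2
  · refine ⟨v, d 0, hd0 0, fun i j => ?_⟩
    split_ifs with hij
    · subst hij
      fin_cases i
      · rfl
      · exact hall.1.symm
      · exact (hall.1.trans hall.2).symm
    · exact hv i j hij
  rcases hsq _ (hd0 0) with e0 | e0 <;> rcases hsq _ (hd0 1) with e1 | e1 <;> rcases hsq _ (hd0 2) with e2 | e2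
  · exact absurd ⟨by rw [e0, e1], by rw [e1, e2]⟩ hall
  · exact key 0 1 2 (by decide) (by decide) (by decide) (by rw [e0, e1]) (by rw [e0, e2])
  · exact key 0 2 1 (by decide) (by decide) (by decide) (by rw [e0, e2]) (by rw [e0, e1])
  · exact key 1 2 0 (by decide) (by decide) (by decide) (by rw [e1, e2]) (by rw [e0, e1, neg_neg])
  · exact key 1 2 0 (by decide) (by decide) (by decide) (by rw [e1, e2]) (by rw [e0, e1])
  · exact key 0 2 1 (by decide) (by decide) (by decide) (by rw [e0, e2]) (by rw [e0, e1, neg_neg])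
  · exact key 0 1 2 (by decide) (by decide) (by decide) (by rw [e0, e1]) (by rw [e0, e2, neg_neg])
  · exact absurd ⟨by rw [e0, e1], by rw [e1, e2]⟩ hall

/-- Over three elements a three-dimensional orthogonal factor gives a decomposition. -/
theorem tensor_three {H : Subgroup (GL (Fin m ⊕ Fin m) F)} (hm : 1 ≤ m) (hH : Geo.IsMaximalIn (spGL m F) H)
    (hq : Fintype.card F = 3) {a : ℕ} (ha : 0 < a) (h : SpTensor a 3 H) : SpDec 3 a H := by
  classical
  obtain ⟨e, P, f₁, f₂, hf₁, hf₂, hS, rfl⟩ := h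
  obtain ⟨G₁, G₂, hgram, hG₂, hG₁alt, hform⟩ := exists_tensor_gram hm ha three_pos hf₁ hf₂ hS
  obtain ⟨u, κ, hκ, hu⟩ := exists_equal_frame hq hf₂
  have hf := MaxSub.isSymplecticForm_sympForm (m := m) (F := F)
  let L : Fin 3 → (Fin a → F) →ₗ[F] (Fin m ⊕ Fin m → F) := fun j =>
    { toFun := fun x => (P : Matrix (Fin m ⊕ Fin m) (Fin m ⊕ Fin m) F) *ᵥ (pvec x (u j) ∘ e)
      map_add' := fun x y => by
        rw [← Matrix.mulVec_add]; congr 1; funext i; simp [pvec, add_mul]
      map_smul' := fun c x => by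
        rw [RingHom.id_apply, ← Matrix.mulVec_smul]; congr 1; funext i; simp [pvec, mul_assoc] }
  have hL : ∀ i j x y, sympForm m F (L i x) (L j y) =
      if i = j then gramForm (G₁ : Matrix (Fin a) (Fin a) F) x y * κ else 0 := fun i j x y => by
    show sympForm m F ((P : Matrix (Fin m ⊕ Fin m) (Fin m ⊕ Fin m) F) *ᵥ (pvec x (u i) ∘ e))
      ((P : Matrix (Fin m ⊕ Fin m) (Fin m ⊕ Fin m) F) *ᵥ (pvec y (u j) ∘ e)) = _
    rw [hform, hu]; split_ifs <;> simp
  have hG₁nd : ∀ x : Fin a → F, x ≠ 0 → ∃ y, gramForm (G₁ : Matrix (Fin a) (Fin a) F) y x ≠ 0 := by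
    intro x hx
    obtain ⟨y, hy⟩ := MaxSub.exists_dotProduct_ne_zero
      (φ := (G₁ : Matrix (Fin a) (Fin a) F) *ᵥ x) (MaxSub.mulVec_ne_zero G₁ hx)
    exact ⟨y, by rwa [gramForm, dotProduct_comm]⟩
  have hLinj : ∀ j, Function.Injective (L j) := fun j => by
    rw [injective_iff_map_eq_zero]
    intro x hx
    by_contra h0
    obtain ⟨y, hy⟩ := hG₁nd x h0
    have h1 := hL j j y x
    rw [hx, MaxSub.form_zero_right hf.bilinear, if_pos rfl] at h1
    exact mul_ne_zero hy hκ h1.symm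
  let D : Fin 3 → Submodule F (Fin m ⊕ Fin m → F) := fun j => LinearMap.range (L j)
  have hD : Geo.IsNondegenerateMDecomposition (sympForm m F) a D := by
    refine ⟨⟨by norm_num, ha, fun j => ?_, ?_, ?_⟩, fun j => ?_, ?_⟩
    · rw [LinearMap.finrank_range_of_inj (hLinj j), Module.finrank_pi, Fintype.card_fin]
    · refine fun i => Submodule.disjoint_def.mpr fun v hv hv' => ?_
      obtain ⟨x, rfl⟩ := hv
      by_contra h0
      have hx : x ≠ 0 := fun e => h0 (by rw [e, map_zero])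
      obtain ⟨y, hy⟩ := hG₁nd x hx
      have h1 : (⨆ (j) (_ : j ≠ i), D j) ≤ LinearMap.ker (MaxSub.rmap hf.bilinear (L i y)) := by
        refine iSup₂_le fun j hj => ?_
        rintro _ ⟨z, rfl⟩
        rw [LinearMap.mem_ker, MaxSub.rmap_apply, hL, if_neg hj.symm]
      have h2 := h1 hv'
      rw [LinearMap.mem_ker, MaxSub.rmap_apply, hL, if_pos rfl] at h2
      exact mul_ne_zero hy hκ h2
    · refine eq_top_iff.mpr fun v _ => ?_
      let z : Fin a × Fin 3 → F := fun p => (((P⁻¹ : GL (Fin m ⊕ Fin m) F) : Matrix (Fin m ⊕ Fin m) (Fin m ⊕ Fin m) F) *ᵥ v) (e.symm p)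
      have hv : v = ∑ j, L j (fun k => u.equivFun (fun i => z (k, i)) j) := by
        have h1 : z = ∑ j, pvec (fun k => u.equivFun (fun i => z (k, i)) j) (u j) := by
          funext ⟨k, i⟩
          rw [Finset.sum_apply]
          have h2 := congrFun (u.sum_equivFun (fun i => z (k, i))) i
          simp only [Finset.sum_apply, Pi.smul_apply, smul_eq_mul] at h2
          exact h2.symm
        have h3 : v = (P : Matrix (Fin m ⊕ Fin m) (Fin m ⊕ Fin m) F) *ᵥ (z ∘ e) := by
          rw [show z ∘ e = ((P⁻¹ : GL (Fin m ⊕ Fin m) F) : Matrix (Fin m ⊕ Fin m) (Fin m ⊕ Fin m) F) *ᵥ v from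
            funext fun i => by simp [z], MaxSub.mulVec_inv_mulVec]
        conv_lhs => rw [h3, h1]
        rw [show (∑ j, pvec (fun k => u.equivFun (fun i => z (k, i)) j) (u j)) ∘ e =
          ∑ j, (pvec (fun k => u.equivFun (fun i => z (k, i)) j) (u j) ∘ e) from funext fun i => by
            simp [Finset.sum_apply], Matrix.mulVec_sum]
        rfl
      rw [hv]
      exact Submodule.sum_mem _ fun j _ => Submodule.mem_iSup_of_mem j ⟨_, rfl⟩
    · rintro _ ⟨x, rfl⟩ h0
      have hx : x ≠ 0 := fun e => h0 (by rw [e, map_zero])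
      obtain ⟨y, hy⟩ := hG₁nd x hx
      have hne : sympForm m F (L j y) (L j x) ≠ 0 := by rw [hL, if_pos rfl]; exact mul_ne_zero hy hκ
      exact ⟨⟨_, ⟨y, rfl⟩, hne⟩, ⟨_, ⟨y, rfl⟩, by rwa [hf.skew, neg_ne_zero]⟩⟩
    · rintro i j hij _ ⟨x, rfl⟩ _ ⟨y, rfl⟩
      rw [hL, if_neg hij]
  refine ⟨D, hD, eq_inf_of_maximal hH ?_ (sp_not_le_decompositionStabilizer hD.decomp)⟩
  intro g hg
  obtain ⟨A, B, c, hc0, hgv, -, hB⟩ := exists_factors (inf_le_right) ha three_pos inf_le_left hgram g hg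
  -- the orthogonal factor permutes the lines of the frame
  have hsq : ∀ x : F, x ≠ 0 → x * x = 1 := fun x hx => by
    have h1 := FiniteField.pow_card_sub_one_eq_one x hx
    rw [hq] at h1
    rw [← h1, pow_two]
  have hc1 : c⁻¹ = 1 := by
    have h1 := congrArg Matrix.det hB
    rw [Matrix.det_mul, Matrix.det_mul, Matrix.det_transpose, Matrix.det_smul, Fintype.card_fin] at h1
    have hBd : (B : Matrix (Fin 3) (Fin 3) F).det ≠ 0 := ((Matrix.isUnit_iff_isUnit_det _).mp B.isUnit).ne_zero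
    have hGd : (G₂ : Matrix (Fin 3) (Fin 3) F).det ≠ 0 := ((Matrix.isUnit_iff_isUnit_det _).mp G₂.isUnit).ne_zero
    have h2 : c⁻¹ ^ 3 = 1 := by
      refine mul_right_cancel₀ hGd ?_
      rw [← h1, mul_right_comm, hsq _ hBd, one_mul]
    calc c⁻¹ = c⁻¹ * (c⁻¹ * c⁻¹) := by rw [hsq _ (inv_ne_zero hc0), mul_one]
      _ = c⁻¹ ^ 3 := by ring
      _ = 1 := h2
  have hBform : ∀ x y, f₂ ((B : Matrix (Fin 3) (Fin 3) F) *ᵥ x) ((B : Matrix (Fin 3) (Fin 3) F) *ᵥ y) = f₂ x y := by
    intro x y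
    rw [← hG₂, ← hG₂, gramForm, gramForm, Matrix.mulVec_mulVec]
    conv_rhs => rw [← one_smul F ((G₂ : Matrix (Fin 3) (Fin 3) F)), ← hc1, ← hB]
    rw [Matrix.mul_assoc (B : Matrix (Fin 3) (Fin 3) F)ᵀ, ← Matrix.mulVec_mulVec y _ ((G₂ : Matrix (Fin 3) (Fin 3) F) * _),
      Matrix.dotProduct_mulVec x, Matrix.vecMul_transpose]
  have hmono : ∀ j, ∃ (i : Fin 3) (s : F), s ≠ 0 ∧ (B : Matrix (Fin 3) (Fin 3) F) *ᵥ u j = s • u i := by
    intro j
    set w := (B : Matrix (Fin 3) (Fin 3) F) *ᵥ u j with hw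
    set x := u.equivFun w with hx
    have hwx : w = ∑ i, x i • u i := (u.sum_equivFun w).symm
    have hnorm : x 0 * x 0 + x 1 * x 1 + x 2 * x 2 = 1 := by
      have h1 : f₂ w w = κ := by rw [hw, hBform, hu, if_pos rfl]
      rw [hwx, Fin.sum_univ_three] at h1
      simp [hf₂.bilinear.add_left, hf₂.bilinear.add_right, hf₂.bilinear.smul_left, hf₂.bilinear.smul_right, hu] at h1
      exact mul_right_cancel₀ hκ (by linear_combination h1)
    have h3 : (3 : F) = 0 := by
      have := Nat.cast_card_eq_zero F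
      rw [hq] at this
      exact_mod_cast this
    have h21 : (2 : F) ≠ 1 := fun e => one_ne_zero (α := F) (by linear_combination e)
    rw [Fin.sum_univ_three] at hwx
    by_cases e0 : x 0 = 0 <;> by_cases e1 : x 1 = 0 <;> by_cases e2 : x 2 = 0
    · simp [e0, e1, e2] at hnorm
    · exact ⟨2, x 2, e2, by rw [hwx, e0, e1]; simp⟩
    · exact ⟨1, x 1, e1, by rw [hwx, e0, e2]; simp⟩
    · exact absurd (by linear_combination hnorm - x 0 * e0 - hsq _ e1 - hsq _ e2) h21
    · exact ⟨0, x 0, e0, by rw [hwx, e1, e2]; simp⟩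
    · exact absurd (by linear_combination hnorm - hsq _ e0 - x 1 * e1 - hsq _ e2) h21
    · exact absurd (by linear_combination hnorm - hsq _ e0 - hsq _ e1 - x 2 * e2) h21
    · exact absurd (show (0 : F) = 1 by linear_combination hnorm - hsq _ e0 - hsq _ e1 - hsq _ e2 - h3) zero_ne_one
  choose π s hs hπ using hmono
  have hπinj : Function.Injective π := by
    intro j j' hjj
    by_contra hne
    have h1 := hBform (u j) (u j')
    rw [hπ, hπ, hf₂.bilinear.smul_left, hf₂.bilinear.smul_right, hjj, hu, if_pos rfl, hu, if_neg hne] at h1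
    exact mul_ne_zero (hs j) (mul_ne_zero (hs j') hκ) h1
  refine ⟨Equiv.ofBijective π (Finite.injective_iff_bijective.mp hπinj), fun j => ?_⟩
  have himg : ∀ x, (g : Matrix (Fin m ⊕ Fin m) (Fin m ⊕ Fin m) F) *ᵥ L j x =
      L (π j) (s j • ((A : Matrix (Fin a) (Fin a) F) *ᵥ x)) := by
    intro x
    show (g : Matrix (Fin m ⊕ Fin m) (Fin m ⊕ Fin m) F) *ᵥ ((P : Matrix (Fin m ⊕ Fin m) (Fin m ⊕ Fin m) F) *ᵥ (pvec x (u j) ∘ e)) =
      (P : Matrix (Fin m ⊕ Fin m) (Fin m ⊕ Fin m) F) *ᵥ (pvec (s j • ((A : Matrix (Fin a) (Fin a) F) *ᵥ x)) (u (π j)) ∘ e)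
    rw [hgv, tr_mulVec, kron_mulVec_pvec, hπ]
    congr 1
    funext i
    simp [pvec]
    ring
  show (LinearMap.range (L j)).map _ = LinearMap.range (L (π j))
  refine le_antisymm ?_ ?_
  · rintro _ ⟨_, ⟨x, rfl⟩, rfl⟩
    exact ⟨_, (himg x).symm.trans (Matrix.toLin'_apply _ _).symm⟩
  · rintro _ ⟨y, rfl⟩
    refine ⟨L j ((s j)⁻¹ • (((A⁻¹ : GL (Fin a) F) : Matrix (Fin a) (Fin a) F) *ᵥ y)), ⟨_, rfl⟩, ?_⟩
    rw [Matrix.toLin'_apply, himg, Matrix.mulVec_smul, MaxSub.mulVec_inv_mulVec, smul_smul,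
      mul_inv_cancel₀ (hs j), one_smul]

end Cfsg.Agent.Aschbacher
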