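import Cfsg.Agent.MaxSub.Orth
import Cfsg.Agent.Aschbacher.Composite.NotLe

/-!
Invariant maximal totally singular subspaces: the dimension of a symplectic space is even, and a self-adjoint field
with alternating multiples has degree dividing half the dimension.
-/

set_option autoImplicit false
set_option linter.unusedSectionVars false
set_option linter.style.haveILetI false

namespace Cfsg.Agent.Aschbacher

open scoped MatrixGroups Matrix
open Module
open Cfsg.Agent.MaxSub (orth mem_orth finrank_orth rep)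

variable {F : Type*} [Field F] [Fintype F] {ι : Type} [Fintype ι] [DecidableEq ι]

/-- A maximal totally singular subspace invariant under a commutative self-adjoint algebra with alternating
multiples is half-dimensional. -/
theorem exists_invariant_lagrangian {f : (ι → F) → (ι → F) → F} (hf : Geo.IsSymplecticForm f)
    (K : Subalgebra F (Matrix ι ι F)) (hsa : Geo.IsSelfAdjointFor f K) (halt : ∀ k ∈ K, ∀ v, f (k *ᵥ v) v = 0) :
    ∃ U : Submodule F (ι → F), (∀ k ∈ K, ∀ u ∈ U, k *ᵥ u ∈ U) ∧ 2 * finrank F U = Fintype.card ι := by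
  obtain ⟨U, -, ⟨hUts, hUi⟩, hmax⟩ := exists_maximal_ge_of_wellFoundedGT
    (fun U : Submodule F (ι → F) => Geo.IsTotallySingularFor f U ∧ ∀ k ∈ K, ∀ u ∈ U, k *ᵥ u ∈ U) ⊥
    ⟨fun u hu v _ => by rw [(Submodule.mem_bot F).mp hu]; exact MaxSub.form_zero_left hf.bilinear v,
      fun k _ u hu => by simp [(Submodule.mem_bot F).mp hu]⟩
  refine ⟨U, hUi, ?_⟩
  have hle : orth hf.bilinear U ≤ U := by
    intro w hw
    let ev : K →ₗ[F] (ι → F) :=
      { toFun := fun k => (k : Matrix ι ι F) *ᵥ w
        map_add' := fun a b => by simp [Matrix.add_mulVec]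
        map_smul' := fun c a => by simp [Matrix.smul_mulVec] }
    have hwU : ∀ k ∈ K, ∀ u ∈ U, f (k *ᵥ w) u = 0 := fun k hk u hu => by
      rw [hsa k hk]
      exact mem_orth.mp hw _ (hUi k hk u hu)
    have hle' : U ⊔ LinearMap.range ev ≤ U := by
      refine hmax ⟨?_, ?_⟩ le_sup_left
      · intro x hx y hy
        obtain ⟨a, ha, _, ⟨k, rfl⟩, rfl⟩ := Submodule.mem_sup.mp hx
        obtain ⟨b, hb, _, ⟨l, rfl⟩, rfl⟩ := Submodule.mem_sup.mp hy
        show f (a + (k : Matrix ι ι F) *ᵥ w) (b + (l : Matrix ι ι F) *ᵥ w) = 0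
        rw [hf.bilinear.add_left, hf.bilinear.add_right, hf.bilinear.add_right, hUts a ha b hb,
          hwU k k.2 b hb, hf.skew a ((l : Matrix ι ι F) *ᵥ w), hwU l l.2 a ha, ← hsa l l.2,
          Matrix.mulVec_mulVec, halt _ (mul_mem l.2 k.2)]
        ring
      · intro k hk x hx
        obtain ⟨a, ha, _, ⟨l, rfl⟩, rfl⟩ := Submodule.mem_sup.mp hx
        show k *ᵥ (a + (l : Matrix ι ι F) *ᵥ w) ∈ _
        rw [Matrix.mulVec_add]
        exact Submodule.add_mem_sup (hUi k hk a ha) ⟨⟨k, hk⟩ * l, by simp [ev, Matrix.mulVec_mulVec]⟩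
    exact hle' (Submodule.mem_sup_right ⟨1, by simp [ev]⟩)
  have hge : U ≤ orth hf.bilinear U := fun u hu => mem_orth.mpr fun v hv => hUts u hu v hv
  have h := finrank_orth hf.bilinear hf.nondegenerate U
  rw [le_antisymm hle hge] at h
  omega

/-- The dimension of a symplectic space is even. -/
theorem even_card_of_symplectic {f : (ι → F) → (ι → F) → F} (hf : Geo.IsSymplecticForm f) :
    2 ∣ Fintype.card ι := by
  obtain ⟨U, -, hU⟩ := exists_invariant_lagrangian hf ⊥
    (fun k hk u v => by
      obtain ⟨c, rfl⟩ := Algebra.mem_bot.mp hk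
      simp [Algebra.algebraMap_eq_smul_one, Matrix.smul_mulVec, hf.bilinear.smul_left, hf.bilinear.smul_right])
    (fun k hk v => by
      obtain ⟨c, rfl⟩ := Algebra.mem_bot.mp hk
      simp [Algebra.algebraMap_eq_smul_one, Matrix.smul_mulVec, hf.bilinear.smul_left, hf.alternating])
  exact ⟨_, hU.symm⟩

/-- A non-degenerate subspace of a symplectic space has even dimension. -/
theorem even_finrank_of_nondegenerateOn {f : (ι → F) → (ι → F) → F} (hf : Geo.IsSymplecticForm f)
    {W : Submodule F (ι → F)} (hW : Geo.IsNondegenerateOn f W) : 2 ∣ finrank F W := by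
  let b := Module.finBasis F W
  let L : (Fin (finrank F W) → F) →ₗ[F] (ι → F) := W.subtype.comp (b.equivFun.symm : _ →ₗ[F] W)
  have hLinj : Function.Injective L := Subtype.val_injective.comp b.equivFun.symm.injective
  have hLmem : ∀ x, L x ∈ W := fun x => (b.equivFun.symm x).2
  have hLsurj : ∀ w ∈ W, ∃ x, L x = w := fun w hw => ⟨b.equivFun ⟨w, hw⟩, by simp [L]⟩
  have hne : ∀ x, x ≠ 0 → L x ≠ 0 := fun x hx h => hx (hLinj (h.trans (map_zero L).symm))
  have hg : Geo.IsSymplecticForm (fun x y : Fin (finrank F W) → F => f (L x) (L y)) :=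
    { bilinear :=
        { add_left := fun x y v => by simp only [map_add, hf.bilinear.add_left]
          smul_left := fun c x v => by simp only [map_smul, hf.bilinear.smul_left]
          add_right := fun v x y => by simp only [map_add, hf.bilinear.add_right]
          smul_right := fun c v x => by simp only [map_smul, hf.bilinear.smul_right] }
      skew := fun v w => hf.skew _ _
      alternating := fun v => hf.alternating _
      nondegenerate := fun v hv => by
        obtain ⟨⟨x, hx, hx'⟩, ⟨y, hy, hy'⟩⟩ := hW (L v) (hLmem v) (hne v hv)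
        obtain ⟨x₀, rfl⟩ := hLsurj x hx
        obtain ⟨y₀, rfl⟩ := hLsurj y hy
        exact ⟨⟨x₀, hx'⟩, ⟨y₀, hy'⟩⟩ }
  simpa using even_card_of_symplectic hg

/-- The degree of a field subalgebra divides the dimension of an invariant subspace. -/
theorem field_degree_dvd_finrank {r : ℕ} {K : Subalgebra F (Matrix ι ι F)} (hK : Geo.IsFieldSubalgebra r K)
    {U : Submodule F (ι → F)} (hU : ∀ k ∈ K, ∀ u ∈ U, k *ᵥ u ∈ U) : r ∣ finrank F U := by
  rcases eq_or_ne U ⊥ with rfl | hU0
  · simp
  let b := Module.finBasis F U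
  let res : K →ₐ[F] Module.End F U :=
    { toFun := fun k => (Matrix.toLin' (k : Matrix ι ι F)).restrict (fun u hu => by simpa using hU k k.2 u hu)
      map_one' := by ext u; simp
      map_mul' := fun k l => by ext u; simp
      map_zero' := by ext u; simp
      map_add' := fun k l => by ext u; simp
      commutes' := fun c => by ext u; simp [Algebra.algebraMap_eq_smul_one, Matrix.smul_mulVec] }
  let ψ : K →ₐ[F] Matrix (Fin (finrank F U)) (Fin (finrank F U)) F := (LinearMap.toMatrixAlgEquiv b).toAlgHom.comp res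
  have hinj : Function.Injective ψ := by
    rw [injective_iff_map_eq_zero]
    intro k hk
    by_contra h0
    obtain ⟨u, hu, hu0⟩ := (Submodule.ne_bot_iff _).mp hU0
    obtain ⟨l, hl, hkl⟩ := hK.inv k k.2 (fun e => h0 (Subtype.ext e))
    have h1 : res k = 0 := (LinearMap.toMatrixAlgEquiv b).injective (hk.trans (map_zero _).symm)
    have h2 := congrArg Subtype.val (LinearMap.congr_fun h1 ⟨l *ᵥ u, hU l hl u hu⟩)
    simp [res, Matrix.mulVec_mulVec, hkl] at h2
    exact hu0 h2
  have hK' : Geo.IsFieldSubalgebra r ψ.range := by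
    refine ⟨?_, ?_, ?_⟩
    · rintro _ ⟨x, rfl⟩ _ ⟨y, rfl⟩
      show ψ x * ψ y = ψ y * ψ x
      rw [← map_mul, ← map_mul, show x * y = y * x from Subtype.ext (hK.comm x x.2 y y.2)]
    · rintro _ ⟨x, rfl⟩ hx
      obtain ⟨y, hy, hxy⟩ := hK.inv x x.2 (fun e => hx (by rw [show x = 0 from Subtype.ext e]; exact map_zero ψ))
      refine ⟨ψ ⟨y, hy⟩, ⟨_, rfl⟩, ?_⟩
      show ψ x * ψ ⟨y, hy⟩ = 1
      rw [← map_mul, show x * ⟨y, hy⟩ = 1 from Subtype.ext hxy, map_one]
    · rw [← (AlgEquiv.ofInjective ψ hinj).toLinearEquiv.finrank_eq, hK.finrank_eq]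
  simpa using field_degree_dvd hK'

/-- The degree of a self-adjoint field with alternating multiples divides half the dimension. -/
theorem selfAdjoint_degree_dvd {f : (ι → F) → (ι → F) → F} (hf : Geo.IsSymplecticForm f) {r m : ℕ}
    (hm : Fintype.card ι = 2 * m) {K : Subalgebra F (Matrix ι ι F)} (hK : Geo.IsFieldSubalgebra r K)
    (hsa : Geo.IsSelfAdjointFor f K) (halt : ∀ k ∈ K, ∀ v, f (k *ᵥ v) v = 0) : r ∣ m := by
  obtain ⟨U, hUi, hU⟩ := exists_invariant_lagrangian hf K hsa halt
  have h := field_degree_dvd_finrank hK hUi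
  rwa [show finrank F U = m by omega] at h

end Cfsg.Agent.Aschbacher
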