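import Cfsg.Agent.MaxSub.Asch.SymplecticMain
import Cfsg.Agent.Aschbacher.Composite.NotLe
import Cfsg.Agent.Aschbacher.Transvection

/-!
The symplectic group stabilises no subspace, decomposition, tensor decomposition, tensor power, subfield structure,
field or quadratic form.
-/

set_option autoImplicit false
set_option linter.unusedSectionVars false
set_option linter.style.haveILetI false

namespace Cfsg.Agent.Aschbacher

open scoped MatrixGroups Matrix Kronecker
open Module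
open Cfsg.Agent.MaxSub (st st_mulVec st_mem_isom isSymplecticForm_sympForm exists_mem_mulVec_eq)
open Cfsg.Agent.MaxSub.Asch (tr tr_apply ptens exists_ptens_image)

variable {F : Type*} [Field F]

theorem tr_mulVec {ι κ : Type} [Fintype ι] [DecidableEq ι] [Fintype κ] [DecidableEq κ] (e : ι ≃ κ) (P : GL ι F)
    (M : Matrix κ κ F) (x : κ → F) :
    tr e P M *ᵥ ((P : Matrix ι ι F) *ᵥ (x ∘ e)) = (P : Matrix ι ι F) *ᵥ ((M *ᵥ x) ∘ e) := by
  rw [tr_apply, Matrix.mulVec_mulVec, mul_assoc, ← Units.val_mul, inv_mul_cancel, Units.val_one, mul_one,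
    ← Matrix.mulVec_mulVec]
  congr 1
  funext i
  simp only [Matrix.mulVec, dotProduct, Matrix.coe_reindexAlgEquiv, Matrix.reindex_apply, Matrix.submatrix_apply,
    Equiv.symm_symm, Function.comp_apply]
  exact e.sum_comp fun j => M (e i) j * x j

theorem comp_mulVec_ne_zero {ι κ : Type} [Fintype ι] [DecidableEq ι] [Fintype κ] (e : ι ≃ κ) (P : GL ι F)
    {x : κ → F} (hx : x ≠ 0) : (P : Matrix ι ι F) *ᵥ (x ∘ e) ≠ 0 :=
  MaxSub.mulVec_ne_zero P fun h => hx (funext fun k => by simpa using congrFun h (e.symm k))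

theorem comp_mulVec_inj {ι κ : Type} [Fintype ι] [DecidableEq ι] [Fintype κ] (e : ι ≃ κ) (P : GL ι F)
    {x y : κ → F} (h : (P : Matrix ι ι F) *ᵥ (x ∘ e) = (P : Matrix ι ι F) *ᵥ (y ∘ e)) : x = y :=
  funext fun k => by simpa using congrFun (MaxSub.mulVec_injective P h) (e.symm k)

variable [Fintype F] {m : ℕ}

theorem sp_transitive {u v : Fin m ⊕ Fin m → F} (hu : u ≠ 0) (hv : v ≠ 0) :
    ∃ g ∈ spGL m F, (g : Matrix (Fin m ⊕ Fin m) (Fin m ⊕ Fin m) F) *ᵥ u = v := by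
  obtain ⟨g, -, hg, h⟩ := exists_mem_mulVec_eq (isSymplecticForm_sympForm (m := m) (F := F)) (M := ⊤)
    (fun _ _ => Subgroup.mem_top _) hu hv
  exact ⟨g, by rw [MaxSub.spGL_eq_isom]; exact hg, h⟩

theorem st_mem_spGL (v : Fin m ⊕ Fin m → F) (c : F) : st (sympForm m F) v c ∈ spGL m F := by
  rw [MaxSub.spGL_eq_isom]
  exact st_mem_isom (isSymplecticForm_sympForm (m := m) (F := F)) v c

theorem st_coe (v : Fin m ⊕ Fin m → F) (c : F) :
    (st (sympForm m F) v c : Matrix (Fin m ⊕ Fin m) (Fin m ⊕ Fin m) F) =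
      1 + c • Matrix.vecMulVec v (MaxSub.rep (sympForm m F) v) := by
  rw [MaxSub.st, MaxSub.tv_coe (MaxSub.rep_dot_self (isSymplecticForm_sympForm (m := m) (F := F)) v c)]
  congr 1
  ext i j
  simp [Matrix.vecMulVec_apply, mul_left_comm]

theorem sp_not_le_subspaceStabilizer {W : Submodule F (Fin m ⊕ Fin m → F)} (h0 : W ≠ ⊥) (ht : W ≠ ⊤) :
    ¬ spGL m F ≤ Geo.subspaceStabilizer W := by
  intro h
  obtain ⟨u, huW, hu⟩ := (Submodule.ne_bot_iff _).mp h0
  refine ht (eq_top_iff.mpr fun v _ => ?_)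
  rcases eq_or_ne v 0 with rfl | hv
  · exact W.zero_mem
  obtain ⟨g, hg, rfl⟩ := sp_transitive hu hv
  exact (h hg u).mp huW

theorem ts_ne_top (hm : 1 ≤ m) {W : Submodule F (Fin m ⊕ Fin m → F)}
    (hts : Geo.IsTotallySingularFor (sympForm m F) W) : W ≠ ⊤ := by
  rintro rfl
  obtain ⟨x, hx⟩ := ((isSymplecticForm_sympForm (m := m) (F := F)).nondegenerate
    (Pi.single (Sum.inl ⟨0, hm⟩) 1) (by simp)).1
  exact hx (hts x Submodule.mem_top _ Submodule.mem_top)

theorem sp_not_le_decompositionStabilizer {t k : ℕ} {D : Fin t → Submodule F (Fin m ⊕ Fin m → F)}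
    (hD : Geo.IsMDecomposition k D) : ¬ spGL m F ≤ Geo.decompositionStabilizer D := by
  intro h
  have ht := hD.two_le
  set i₀ : Fin t := ⟨0, by omega⟩
  set i₁ : Fin t := ⟨1, by omega⟩
  have h01 : i₀ ≠ i₁ := by simp [i₀, i₁]
  have hne : ∀ i, D i ≠ ⊥ := fun i hi => by
    have h1 := hD.finrank_eq i
    rw [hi, finrank_bot] at h1
    have := hD.pos
    omega
  obtain ⟨u, hu, hu0⟩ := (Submodule.ne_bot_iff _).mp (hne i₀)
  obtain ⟨w, hw, hw0⟩ := (Submodule.ne_bot_iff _).mp (hne i₁)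
  have hsep : ∀ {i j : Fin t} {x : Fin m ⊕ Fin m → F}, i ≠ j → x ∈ D i → x ∈ D j → x = 0 := fun {i j x} hij hxi hxj =>
    Submodule.disjoint_def.mp (hD.indep.pairwiseDisjoint hij) x hxi hxj
  have huw : u + w ≠ 0 := fun e => hu0 (hsep h01 hu (by rw [eq_neg_of_add_eq_zero_left e]; exact neg_mem hw))
  obtain ⟨g, hg, hgu⟩ := sp_transitive hu0 huw
  obtain ⟨σ, hσ⟩ := h hg
  have hmem : u + w ∈ D (σ i₀) := by
    rw [← hσ i₀]
    exact ⟨u, hu, by simpa using hgu⟩
  rcases eq_or_ne (σ i₀) i₀ with h0 | h0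
  · rw [h0] at hmem
    exact hw0 (hsep h01 (by simpa using sub_mem hmem hu) hw)
  rcases eq_or_ne (σ i₀) i₁ with h1 | h1
  · rw [h1] at hmem
    exact hu0 (hsep h01 hu (by simpa using sub_mem hmem hw))
  · refine huw (Submodule.disjoint_def.mp (hD.indep (σ i₀)) _ hmem (add_mem ?_ ?_))
    · exact Submodule.mem_iSup_of_mem i₀ (Submodule.mem_iSup_of_mem h0.symm hu)
    · exact Submodule.mem_iSup_of_mem i₁ (Submodule.mem_iSup_of_mem h1.symm hw)

theorem sp_not_le_tensorProductSubgroup {n₁ n₂ : ℕ} (h1 : 2 ≤ n₁) (h2 : 2 ≤ n₂)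
    (e : (Fin m ⊕ Fin m) ≃ Fin n₁ × Fin n₂) (P : GL (Fin m ⊕ Fin m) F) :
    ¬ spGL m F ≤ Geo.tensorProductSubgroup n₁ n₂ e P := by
  intro h
  set o : Fin n₁ × Fin n₂ := (⟨0, by omega⟩, ⟨0, by omega⟩) with ho
  set l : Fin n₁ × Fin n₂ := (⟨1, by omega⟩, ⟨1, by omega⟩) with hl
  let x : Fin n₁ × Fin n₂ → F := Pi.single o 1
  let y : Fin n₁ × Fin n₂ → F := Pi.single o 1 + Pi.single l 1
  have hx : x ≠ 0 := fun e => by simpa [x] using congrFun e o
  have hy : y ≠ 0 := fun e => by simpa [y, o, l] using congrFun e o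
  obtain ⟨g, hg, hgx⟩ := sp_transitive (comp_mulVec_ne_zero e P hx) (comp_mulVec_ne_zero e P hy)
  obtain ⟨_, ⟨k, ⟨a, b, hab⟩, rfl⟩, rfl⟩ := h hg
  rw [show ((MulAut.conj P).toMonoidHom ((Geo.glReindex e.symm).toMonoidHom k) : Matrix (Fin m ⊕ Fin m) (Fin m ⊕ Fin m) F) =
    tr e P (k : Matrix (Fin n₁ × Fin n₂) (Fin n₁ × Fin n₂) F) from MaxSub.Asch.tr_eq_conj_glReindex e P k, tr_mulVec] at hgx
  have hxy := comp_mulVec_inj e P hgx
  rw [hab] at hxy
  have e1 := congrFun hxy o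
  have e2 := congrFun hxy l
  have e3 := congrFun hxy (o.1, l.2)
  simp [x, y, o, l] at e1 e2 e3
  rcases e3 with e3 | e3
  · rw [e3, zero_mul] at e1; exact one_ne_zero e1.symm
  · rw [e3, mul_zero] at e2; exact one_ne_zero e2.symm

theorem sp_not_le_tensorWreathSubgroup {d t : ℕ} (hd : 2 ≤ d) (ht : 2 ≤ t)
    (e : (Fin m ⊕ Fin m) ≃ (Fin t → Fin d)) (P : GL (Fin m ⊕ Fin m) F) :
    ¬ spGL m F ≤ Geo.tensorWreathSubgroup d t e P := by
  classical
  intro h
  set o : Fin d := ⟨0, by omega⟩ with ho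
  set l : Fin d := ⟨1, by omega⟩ with hl
  have hol : o ≠ l := by simp [o, l]
  set i₀ : Fin t := ⟨0, by omega⟩
  set i₁ : Fin t := ⟨1, by omega⟩
  have h01 : i₁ ≠ i₀ := by simp [i₀, i₁]
  let xo : Fin t → Fin d := fun _ => o
  let xl : Fin t → Fin d := fun _ => l
  let y : (Fin t → Fin d) → F := Pi.single xo 1 + Pi.single xl 1
  have hne : xo ≠ xl := fun hh => hol (congrFun hh i₀)
  have hy : y ≠ 0 := fun e => by simpa [y, hne] using congrFun e xo
  have hx : ptens (fun _ : Fin t => (Pi.single o 1 : Fin d → F)) ≠ 0 := fun e => by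
    simpa [ptens, xo] using congrFun e xo
  obtain ⟨g, hg, hgx⟩ := sp_transitive (comp_mulVec_ne_zero e P hx) (comp_mulVec_ne_zero e P hy)
  obtain ⟨_, ⟨k, hk, rfl⟩, rfl⟩ := h hg
  rw [show ((MulAut.conj P).toMonoidHom ((Geo.glReindex e.symm).toMonoidHom k) : Matrix (Fin m ⊕ Fin m) (Fin m ⊕ Fin m) F) =
    tr e P (k : Matrix (Fin t → Fin d) (Fin t → Fin d) F) from MaxSub.Asch.tr_eq_conj_glReindex e P k, tr_mulVec] at hgx
  obtain ⟨u', hu'⟩ := exists_ptens_image hk (fun _ : Fin t => (Pi.single o 1 : Fin d → F))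
  have hxy : ptens u' = y := hu' ▸ comp_mulVec_inj e P hgx
  let z : Fin t → Fin d := Function.update xo i₀ l
  have hzo : z ≠ xo := fun hh => hol (by simpa [z, xo] using (congrFun hh i₀).symm)
  have hzl : z ≠ xl := fun hh => hol (by simpa [z, xo, xl, h01] using congrFun hh i₁)
  have e1 := congrFun hxy xo
  have e2 := congrFun hxy xl
  have e3 := congrFun hxy z
  simp [ptens, y, hne, hne.symm, hzo, hzl] at e1 e2 e3
  obtain ⟨i, hi⟩ := Finset.prod_eq_zero_iff.mp e3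
  rcases eq_or_ne i i₀ with h0 | h0
  · exact one_ne_zero (e2.symm.trans (Finset.prod_eq_zero hi.1 (by simpa [z, xl, h0] using hi.2)))
  · exact one_ne_zero (e1.symm.trans (Finset.prod_eq_zero hi.1 (by simpa [z, xo, h0] using hi.2)))

theorem sp_not_le_quadSimilarityGroup (hm : 2 ≤ m) (heven : ¬ Odd (Fintype.card F))
    {Q : (Fin m ⊕ Fin m → F) → F} (hQ : Geo.IsNondegenerateQuadraticForm Q)
    (hpol : ∀ u v, QuadraticMap.polar Q u v = sympForm m F u v) : ¬ spGL m F ≤ Geo.quadSimilarityGroup Q := by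
  intro h
  have hf := isSymplecticForm_sympForm (m := m) (F := F)
  have hsum : ∀ u v, Q (u + v) = Q u + Q v + sympForm m F u v := fun u v => by
    rw [← hpol, QuadraticMap.polar]; ring
  -- a vector which is not singular
  obtain ⟨w, hw⟩ : ∃ w, Q w ≠ 0 := by
    by_contra hcon
    push Not at hcon
    obtain ⟨x, hx⟩ := (hf.nondegenerate (Pi.single (Sum.inl ⟨0, by omega⟩) 1) (by simp)).1
    exact hx (by rw [← hpol, QuadraticMap.polar, hcon, hcon, hcon]; ring)
  have hw0 : w ≠ 0 := by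
    rintro rfl
    exact hw (by simpa using hQ.smul 0 0)
  -- a singular vector
  obtain ⟨z, hz0, hz⟩ : ∃ z : Fin m ⊕ Fin m → F, z ≠ 0 ∧ Q z = 0 := by
    set u : Fin m ⊕ Fin m → F := Pi.single (Sum.inl ⟨0, by omega⟩) 1
    set v : Fin m ⊕ Fin m → F := Pi.single (Sum.inl ⟨1, by omega⟩) 1
    have huv : sympForm m F u v = 0 := by
      rw [MaxSub.sympForm_apply]
      simp [u, v]
    by_cases hu : Q u = 0
    · exact ⟨u, by simp [u], hu⟩
    obtain ⟨a, ha⟩ := exists_sq_of_even (Nat.not_odd_iff_even.mp heven) (Q v / Q u)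
    refine ⟨a • u + v, fun e => ?_, ?_⟩
    · simpa [u, v, Pi.single_apply, Fin.ext_iff] using congrFun e (Sum.inl ⟨1, by omega⟩)
    · rw [hsum, hQ.smul, hf.bilinear.smul_left, huv, ha, div_mul_cancel₀ _ hu, mul_zero, add_zero, ← two_mul,
        two_eq_zero_of_not_odd heven, zero_mul]
  obtain ⟨g, hg, rfl⟩ := sp_transitive hz0 hw0
  obtain ⟨c, hc⟩ := h hg
  exact hw (by rw [hc, hz, mul_zero])

theorem sp_not_le_subfieldSubgroup (hm : 1 ≤ m) {F₁ : Subfield F} (hF₁ : F₁ ≠ ⊤) (P : GL (Fin m ⊕ Fin m) F) :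
    ¬ spGL m F ≤ Geo.subfieldSubgroup F₁ P := by
  classical
  intro hle
  obtain ⟨p, hp⟩ := CharP.exists F
  haveI : Fact p.Prime := ⟨CharP.char_is_prime F p⟩
  set v : Fin m ⊕ Fin m → F := Pi.single (Sum.inl ⟨0, hm⟩) 1
  set φ := MaxSub.rep (sympForm m F) v
  set E : Matrix (Fin m ⊕ Fin m) (Fin m ⊕ Fin m) F := ((P⁻¹ : GL (Fin m ⊕ Fin m) F) : Matrix (Fin m ⊕ Fin m) (Fin m ⊕ Fin m) F) *
    Matrix.vecMulVec v φ * (P : Matrix (Fin m ⊕ Fin m) (Fin m ⊕ Fin m) F) with hE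
  have hf := isSymplecticForm_sympForm (m := m) (F := F)
  have hEE : E * E = 0 := by
    have h0 : Matrix.vecMulVec v φ * Matrix.vecMulVec v φ = 0 := by
      rw [Matrix.vecMulVec_mul_vecMulVec, show φ ⬝ᵥ v = 0 by rw [MaxSub.rep_dot hf.bilinear, hf.alternating]]
      simp
    rw [hE]
    simp only [mul_assoc, ← mul_assoc (P : Matrix (Fin m ⊕ Fin m) (Fin m ⊕ Fin m) F), ← Units.val_mul, mul_inv_cancel,
      Units.val_one, one_mul]
    rw [← mul_assoc (Matrix.vecMulVec v φ) (Matrix.vecMulVec v φ), h0]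
    simp
  have hrat : ∀ c : F, ∀ i j, c * E i j ∈ F₁ := by
    intro c
    obtain ⟨a, ha, hat⟩ := hle (st_mem_spGL v c)
    obtain ⟨_, ⟨a₀, rfl⟩, z, hz, rfl⟩ := Subgroup.mem_sup_of_normal_right.mp ha
    obtain ⟨μ, hμ⟩ := (Geo.mem_scalars_iff z).mp hz
    set A : Matrix (Fin m ⊕ Fin m) (Fin m ⊕ Fin m) F :=
      ((Matrix.GeneralLinearGroup.map F₁.subtype a₀ : GL (Fin m ⊕ Fin m) F) : Matrix (Fin m ⊕ Fin m) (Fin m ⊕ Fin m) F) with hA
    have hAr : Rational F₁ A := fun i j => ((a₀ : Matrix (Fin m ⊕ Fin m) (Fin m ⊕ Fin m) F₁) i j).2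
    have hteq : (1 : Matrix (Fin m ⊕ Fin m) (Fin m ⊕ Fin m) F) + c • E = (μ : F) • A := by
      have h1 : (P⁻¹ * st (sympForm m F) v c * P : GL (Fin m ⊕ Fin m) F) =
          Matrix.GeneralLinearGroup.map F₁.subtype a₀ * z := by
        rw [← hat]
        simp only [MulEquiv.coe_toMonoidHom, MulAut.conj_apply]
        group
      have h2 := congrArg (fun g : GL (Fin m ⊕ Fin m) F => (g : Matrix (Fin m ⊕ Fin m) (Fin m ⊕ Fin m) F)) h1
      simp only [Units.val_mul, st_coe, hμ, Matrix.mul_smul, mul_one, ← hA] at h2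
      rw [← h2, Matrix.mul_add, Matrix.add_mul, mul_one, ← Units.val_mul, inv_mul_cancel, Units.val_one,
        Matrix.mul_smul, Matrix.smul_mul]
    have hpow : ∀ k : ℕ, ((1 : Matrix (Fin m ⊕ Fin m) (Fin m ⊕ Fin m) F) + c • E) ^ k = 1 + (k : F) • (c • E) := by
      intro k
      induction k with
      | zero => simp
      | succ k ih =>
        rw [pow_succ, ih, add_mul, one_mul, Matrix.smul_mul, mul_add, mul_one, Matrix.smul_mul, Matrix.mul_smul, hEE,
          smul_zero, smul_zero, add_zero]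
        push_cast
        rw [add_smul, one_smul]
        abel
    have hμ1 : (μ : F) ^ p ∈ F₁ := by
      have h3 := hpow p
      rw [CharP.cast_eq_zero, zero_smul, add_zero, hteq, smul_pow] at h3
      have hAp : Rational F₁ (A ^ p) := by
        have : ∀ k : ℕ, Rational F₁ (A ^ k) := by
          intro k
          induction k with
          | zero =>
            intro i j
            rcases eq_or_ne i j with rfl | hij
            · simp [F₁.one_mem]
            · simp [hij, F₁.zero_mem]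
          | succ k ih => rw [pow_succ]; exact ih.mul hAr
        exact this p
      have h4 : (μ : F) ^ p * (A ^ p) (Sum.inl ⟨0, hm⟩) (Sum.inl ⟨0, hm⟩) = 1 := by
        simpa using congrFun (congrFun h3 (Sum.inl ⟨0, hm⟩)) (Sum.inl ⟨0, hm⟩)
      rw [eq_inv_of_mul_eq_one_left h4]
      exact F₁.inv_mem (hAp _ _)
    have hμF : (μ : F) ∈ F₁ := by
      rw [mem_subfield_iff_pow] at hμ1 ⊢
      apply frobenius_inj F p
      rw [frobenius_def, frobenius_def, ← pow_mul, mul_comm, pow_mul, hμ1]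
    intro i j
    have h5 := congrFun (congrFun hteq i) j
    rw [Matrix.add_apply, Matrix.smul_apply, Matrix.smul_apply, smul_eq_mul, smul_eq_mul] at h5
    rw [eq_sub_of_add_eq' h5]
    refine F₁.sub_mem (F₁.mul_mem hμF (hAr i j)) ?_
    rcases eq_or_ne i j with rfl | hij
    · simp [F₁.one_mem]
    · simp [hij, F₁.zero_mem]
  obtain ⟨i, j, hij⟩ : ∃ i j, E i j ≠ 0 := by
    by_contra hcon
    push Not at hcon
    have h0 : E = 0 := Matrix.ext hcon
    have h1 : Matrix.vecMulVec v φ = 0 := by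
      have h2 := congrArg (fun A => (P : Matrix (Fin m ⊕ Fin m) (Fin m ⊕ Fin m) F) * A *
        ((P⁻¹ : GL (Fin m ⊕ Fin m) F) : Matrix (Fin m ⊕ Fin m) (Fin m ⊕ Fin m) F)) h0
      simp only [hE, mul_assoc] at h2
      simp only [← mul_assoc, ← Units.val_mul, mul_inv_cancel, Units.val_one, one_mul, mul_zero, zero_mul] at h2
      simpa only [mul_assoc, ← Units.val_mul, mul_inv_cancel, Units.val_one, mul_one] using h2
    refine MaxSub.rep_ne_zero hf.bilinear hf.nondegenerate (v := v) (by simp [v]) (funext fun k => ?_)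
    simpa [v, φ, Matrix.vecMulVec_apply] using congrFun (congrFun h1 (Sum.inl ⟨0, hm⟩)) k
  refine hF₁ (eq_top_iff.mpr fun x _ => ?_)
  have h1 := hrat (x * (E i j)⁻¹) i j
  rwa [inv_mul_cancel_right₀ hij] at h1

theorem sp_not_le_subalgebraNormalizer (hm : 2 ≤ m) {r : ℕ} (hr : 2 ≤ r)
    {K : Subalgebra F (Matrix (Fin m ⊕ Fin m) (Fin m ⊕ Fin m) F)} (hK : Geo.IsFieldSubalgebra r K) :
    ¬ spGL m F ≤ Geo.subalgebraNormalizer K := by
  intro h
  have hf := isSymplecticForm_sympForm (m := m) (F := F)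
  haveI : Nonempty (Fin m ⊕ Fin m) := ⟨Sum.inl ⟨0, by omega⟩⟩
  have hscal : ∀ k ∈ K, ∀ v : Fin m ⊕ Fin m → F, v ≠ 0 → ∃ c : F, k *ᵥ v = c • v := by
    intro k hk v hv
    have h1 := commute_of_normalizes (by simp; omega) hK (t := st (sympForm m F) v 1)
      (by rw [st_coe, one_smul]) (h (st_mem_spGL v 1)) k hk
    rw [st_coe, one_smul, add_mul, mul_add, one_mul, mul_one, add_right_inj] at h1
    obtain ⟨x, hx⟩ := (hf.nondegenerate v hv).1
    refine ⟨(sympForm m F x v)⁻¹ * sympForm m F (k *ᵥ x) v, ?_⟩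
    have h2 := congrArg (fun M : Matrix _ _ F => M *ᵥ x) h1
    simp only [← Matrix.mulVec_mulVec, Matrix.vecMulVec_mulVec, MaxSub.rep_dot hf.bilinear, op_smul_eq_smul,
      Matrix.mulVec_smul] at h2
    rw [mul_smul, h2, smul_smul, inv_mul_cancel₀ hx, one_smul]
  have hone : ∀ k ∈ K, ∃ c : F, k = c • (1 : Matrix (Fin m ⊕ Fin m) (Fin m ⊕ Fin m) F) := by
    intro k hk
    set o : Fin m ⊕ Fin m := Sum.inl ⟨0, by omega⟩ with ho
    choose c hc using fun i : Fin m ⊕ Fin m => hscal k hk (Pi.single i 1) (by simp)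
    refine ⟨c o, Matrix.ext_of_mulVec_single fun i => ?_⟩
    rw [Matrix.smul_mulVec, Matrix.one_mulVec, hc i]
    rcases eq_or_ne i o with rfl | hio
    · rfl
    obtain ⟨d, hd⟩ := hscal k hk (Pi.single i 1 + Pi.single o 1) (fun e => by simpa [hio] using congrFun e i)
    rw [Matrix.mulVec_add, hc, hc] at hd
    have e1 := congrFun hd i
    have e2 := congrFun hd o
    simp [hio, hio.symm] at e1 e2
    rw [e1, e2]
  have h1 : K = ⊥ := le_bot_iff.mp fun k hk => by
    obtain ⟨c, rfl⟩ := hone k hk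
    exact Subalgebra.smul_mem _ (one_mem _) c
  have h2 := hK.finrank_eq
  rw [h1, Subalgebra.finrank_bot] at h2
  omega

end Cfsg.Agent.Aschbacher
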