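import Cfsg.Agent.Aschbacher.Symp.Basics
import Cfsg.Agent.Aschbacher.Composite.Six

/-!
Absolutely irreducible 2-groups of symplectic type and exponent four: their commutators are scalars, and the
symplectic group does not normalise them.
-/

set_option autoImplicit false
set_option linter.unusedSectionVars false
set_option linter.style.haveILetI false

namespace Cfsg.Agent.Aschbacher

open scoped MatrixGroups Matrix commutatorElement
open Module

/-- A finite group of exponent dividing four whose characteristic abelian subgroups are cyclic has central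
commutators. -/
theorem commutator_le_center_of_exponent_four {G : Type*} [Group G] [Finite G] [Group.IsNilpotent G]
    (hexp : ∀ g : G, g ^ 4 = 1) (hcyc : ∀ A : Subgroup G, A.Characteristic → IsMulCommutative A → IsCyclic A) :
    ⁅(⊤ : Subgroup G), ⊤⁆ ≤ Subgroup.center G := by
  classical
  -- a normal subgroup of order at most two is central
  have hsmall : ∀ N : Subgroup G, N.Normal → Nat.card N ≤ 2 → N ≤ Subgroup.center G := by
    intro N hN h2 x hx
    refine Subgroup.mem_center_iff.mpr fun g => ?_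
    have hgx : g * x * g⁻¹ ∈ N := hN.conj_mem x hx g
    rcases eq_or_ne x 1 with rfl | hx1
    · simp
    by_contra hne
    have h3 : g * x * g⁻¹ ≠ x := fun e => hne (mul_inv_eq_iff_eq_mul.mp e)
    have h4 : g * x * g⁻¹ ≠ 1 := fun e => hx1 (by simpa using e)
    haveI : Fintype N := Fintype.ofFinite N
    have hcard : ({⟨1, one_mem N⟩, ⟨x, hx⟩, ⟨g * x * g⁻¹, hgx⟩} : Finset N).card = 3 := by
      rw [Finset.card_insert_of_notMem, Finset.card_pair] <;>
        simp [Subtype.ext_iff, Ne.symm h3, Ne.symm h4, Ne.symm hx1]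
    have := hcard ▸ Finset.card_le_univ _
    rw [Nat.card_eq_fintype_card] at h2
    omega
  by_cases hall : ∀ A : Subgroup G, A.Characteristic → IsMulCommutative A → A ≤ Subgroup.center G
  · exact commutator_le_center hall
  push Not at hall
  obtain ⟨A, hA, hAc, hAnc⟩ := hall
  haveI := hA
  haveI := hcyc A hA hAc
  obtain ⟨⟨a, haA⟩, hgen⟩ := IsCyclic.exists_generator (α := A)
  have hpa : ∀ x ∈ A, x = 1 ∨ x = a ∨ x = a ^ 2 ∨ x = a ^ 3 := by
    intro x hx
    obtain ⟨i, hi⟩ := mem_powers_iff_mem_zpowers.mpr (hgen ⟨x, hx⟩)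
    have h1 : x = a ^ i := (congrArg Subtype.val hi).symm
    rw [← Nat.mod_add_div i 4, pow_add, pow_mul, hexp, one_pow, mul_one] at h1
    obtain h | h | h | h : i % 4 = 0 ∨ i % 4 = 1 ∨ i % 4 = 2 ∨ i % 4 = 3 := by omega
    all_goals rw [h] at h1
    · exact Or.inl (by simpa using h1)
    · exact Or.inr (Or.inl (by simpa using h1))
    · exact Or.inr (Or.inr (Or.inl h1))
    · exact Or.inr (Or.inr (Or.inr h1))
  have ha2 : a ^ 2 ≠ 1 := by
    intro h2
    refine hAnc (hsmall A inferInstance ?_)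
    have hsub : (A : Set G) ⊆ {1, a} := fun x hx => by
      rcases hpa x hx with rfl | rfl | rfl | rfl
      · simp
      · simp
      · simp [h2]
      · simp [pow_succ' a 2, h2]
    refine le_trans ?_ ((Set.ncard_insert_le 1 {a}).trans (by simp))
    change Nat.card (A : Set G) ≤ _
    rw [Nat.card_coe_set_eq]
    exact Set.ncard_le_ncard hsub (Set.toFinite _)
  have ha1 : a ≠ 1 := fun h => ha2 (by simp [h])
  -- conjugates of the generator
  have hconj : ∀ g : G, g * a * g⁻¹ = a ∨ g * a * g⁻¹ = a ^ 3 := by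
    intro g
    have hmem : g * a * g⁻¹ ∈ A := (inferInstance : A.Normal).conj_mem a haA g
    rcases hpa _ hmem with h | h | h | h
    · exact absurd (by simpa using h) ha1
    · exact Or.inl h
    · exfalso
      have h4 : (g * a * g⁻¹) ^ 2 = 1 := by rw [h, ← pow_mul]; exact hexp a
      rw [conj_pow] at h4
      exact ha2 (by simpa using h4)
    · exact Or.inr h
  obtain ⟨z, hz⟩ : ∃ z, z = a ^ 2 := ⟨_, rfl⟩
  have hzc : ∀ g : G, g * z = z * g := by
    intro g
    have h1 : g * a ^ 2 * g⁻¹ = a ^ 2 := by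
      rw [← conj_pow]
      rcases hconj g with h | h <;> rw [h]
      rw [← pow_mul, show 3 * 2 = 4 + 2 from rfl, pow_add, hexp, one_mul]
    rw [hz]
    exact mul_inv_eq_iff_eq_mul.mp h1
  have hzz : z * z = 1 := by rw [hz, ← pow_add]; exact hexp a
  have hN : ∀ {k k' : G}, (k = 1 ∨ k = z) → (k' = 1 ∨ k' = z) → (k * k' = 1 ∨ k * k' = z) := by
    rintro k k' (rfl | rfl) (rfl | rfl) <;> simp [hzz]
  have hNc : ∀ {k : G}, (k = 1 ∨ k = z) → ∀ g, g * k = k * g := by
    rintro k (rfl | rfl) g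
    · simp
    · exact hzc g
  have hNinv : ∀ {k : G}, (k = 1 ∨ k = z) → k⁻¹ = k ∧ k * k = 1 := by
    rintro k (rfl | rfl)
    · simp
    · exact ⟨inv_eq_of_mul_eq_one_right hzz, hzz⟩
  -- the centraliser of the generator
  set C : Subgroup G := Subgroup.centralizer (A : Set G) with hC
  haveI : C.Characteristic := inferInstance
  have hCn : C.Normal := inferInstance
  have hmemC : ∀ g, g * a * g⁻¹ = a → g ∈ C := by
    intro g hg
    have h1 : a * g = g * a := (mul_inv_eq_iff_eq_mul.mp hg).symm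
    refine Subgroup.mem_centralizer_iff.mpr fun y hy => ?_
    rcases hpa y hy with rfl | rfl | rfl | rfl
    · simp
    · exact h1
    · exact (Commute.pow_left h1 2).eq
    · exact (Commute.pow_left h1 3).eq
  have haC : a ∈ C := hmemC a (by simp)
  have hCa : ∀ c ∈ C, c * a = a * c := fun c hc => (Subgroup.mem_centralizer_iff.mp hc a haA).symm
  obtain ⟨x, hx⟩ : ∃ x, x * a * x⁻¹ = a ^ 3 := by
    by_contra hcon
    push Not at hcon
    refine hAnc fun y hy => Subgroup.mem_center_iff.mpr fun g => ?_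
    exact (Subgroup.mem_centralizer_iff.mp (hmemC g ((hconj g).resolve_right (hcon g))) y hy).symm
  have hx33 : x * a ^ 3 * x⁻¹ = a := by
    rw [← conj_pow, hx, ← pow_mul, show 3 * 3 = 4 + 4 + 1 from rfl, pow_add, pow_add, hexp]; simp
  have hsplit : ∀ g : G, g ∈ C ∨ ∃ c ∈ C, g = x * c := by
    intro g
    rcases hconj g with h | h
    · exact Or.inl (hmemC g h)
    · refine Or.inr ⟨x⁻¹ * g, hmemC _ ?_, by group⟩
      rw [show x⁻¹ * g * a * (x⁻¹ * g)⁻¹ = x⁻¹ * (g * a * g⁻¹) * x by group, h, ← hx]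
      group
  have he : x * x ∈ C := hmemC _ (by
    rw [show x * x * a * (x * x)⁻¹ = x * (x * a * x⁻¹) * x⁻¹ by group, hx, hx33])
  -- the characteristic abelian subgroups of the centraliser are central
  haveI : Group.IsNilpotent C := Subgroup.isNilpotent C
  have himg : ∀ B : Subgroup C, B.Characteristic → IsMulCommutative B → (⟨a, haC⟩ : C) ∈ B → B.map C.subtype = A := by
    intro B hB hBc haB
    haveI := hB
    have hcm : IsMulCommutative (B.map C.subtype : Subgroup G) := by
      refine ⟨⟨fun ⟨_, u, hu, hu'⟩ ⟨_, v, hv, hv'⟩ => Subtype.ext ?_⟩⟩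
      subst hu' hv'
      exact congrArg (fun w : B => ((w : C) : G)) (hBc.is_comm.comm ⟨u, hu⟩ ⟨v, hv⟩)
    haveI := hcyc _ inferInstance hcm
    refine (Subgroup.eq_of_le_of_card_ge (fun y hy => ?_) ?_).symm
    · rcases hpa y hy with rfl | rfl | rfl | rfl
      · exact one_mem _
      · exact ⟨_, haB, rfl⟩
      · exact pow_mem (show a ∈ B.map C.subtype from ⟨_, haB, rfl⟩) 2
      · exact pow_mem (show a ∈ B.map C.subtype from ⟨_, haB, rfl⟩) 3
    · have h4 : orderOf a = 4 := orderOf_eq_prime_pow (p := 2) (n := 1) (by simpa using ha2) (hexp a)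
      have hcard : Nat.card A = 4 := by
        rw [← orderOf_eq_card_of_forall_mem_zpowers hgen, ← Subgroup.orderOf_coe]; exact h4
      rw [hcard, ← IsCyclic.exponent_eq_card (α := (B.map C.subtype : Subgroup G))]
      exact Nat.le_of_dvd (by norm_num) (Monoid.exponent_dvd_of_forall_pow_eq_one fun y => Subtype.ext (hexp y))
  have haZ : (⟨a, haC⟩ : C) ∈ Subgroup.center C :=
    Subgroup.mem_center_iff.mpr fun c => Subtype.ext (hCa c c.2)
  have hBZ : ∀ B : Subgroup C, B.Characteristic → IsMulCommutative B → B ≤ Subgroup.center C := by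
    intro B hB hBc
    haveI := hB
    haveI : (B ⊔ Subgroup.center C).Characteristic := inferInstance
    have hcomm : IsMulCommutative (B ⊔ Subgroup.center C : Subgroup C) := by
      refine ⟨⟨fun ⟨u, hu⟩ ⟨v, hv⟩ => Subtype.ext ?_⟩⟩
      obtain ⟨b, hb, w, hw, rfl⟩ := Subgroup.mem_sup_of_normal_right.mp hu
      obtain ⟨b', hb', w', hw', rfl⟩ := Subgroup.mem_sup_of_normal_right.mp hv
      have hbb : Commute b b' := congrArg Subtype.val (hBc.is_comm.comm ⟨b, hb⟩ ⟨b', hb'⟩)
      have hwc : ∀ g, Commute g w := fun g => Subgroup.mem_center_iff.mp hw g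
      have hwc' : ∀ g, Commute g w' := fun g => Subgroup.mem_center_iff.mp hw' g
      exact ((hbb.mul_right (hwc' _)).mul_left ((hwc _).symm.mul_right (hwc' w))).eq
    intro b hb
    have hbA : (b : G) ∈ A := (himg _ inferInstance hcomm (Subgroup.mem_sup_right haZ)) ▸
      ⟨b, Subgroup.mem_sup_left hb, rfl⟩
    exact Subgroup.mem_center_iff.mpr fun c => Subtype.ext ((Subgroup.mem_centralizer_iff.mp c.2 b hbA).symm)
  have hCcent := commutator_le_center hBZ
  have hcenA : ∀ u : C, u ∈ Subgroup.center C → (u : G) ∈ A := fun u hu =>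
    (himg (Subgroup.center C) inferInstance inferInstance haZ) ▸ ⟨u, hu, rfl⟩
  -- commutators and squares in the centraliser
  have hk : ∀ c ∈ C, ∀ d ∈ C, ∃ k, (k = 1 ∨ k = z) ∧ d * c = k * (c * d) := by
    intro c hc d hd
    have hmem := hCcent (Subgroup.commutator_mem_commutator (H₁ := (⊤ : Subgroup C)) (H₂ := ⊤)
      (g₁ := (⟨d, hd⟩ : C)) (g₂ := ⟨c, hc⟩) trivial trivial)
    have hkA : ⁅d, c⁆ ∈ A := hcenA _ hmem
    have hkc : ∀ g ∈ C, g * ⁅d, c⁆ = ⁅d, c⁆ * g := fun g hg => (Subgroup.mem_centralizer_iff.mp hg _ hkA).symm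
    set k := ⁅d, c⁆ with hk
    have hrel : d * c = k * (c * d) := by rw [hk, commutatorElement_def]; group
    have hk2 : k * k = 1 := by
      have hcd2 : (c * d) ^ 2 = k * (c ^ 2 * d ^ 2) := by
        calc (c * d) ^ 2 = c * (d * c) * d := by rw [pow_two]; group
          _ = c * k * (c * d) * d := by rw [hrel]; group
          _ = k * c * (c * d) * d := by rw [hkc c hc]
          _ = k * (c ^ 2 * d ^ 2) := by rw [pow_two, pow_two]; group
      have hdc2 : d ^ 2 * c ^ 2 = c ^ 2 * d ^ 2 := by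
        have e1 : d * c ^ 2 = k ^ 2 * (c ^ 2 * d) := by
          calc d * c ^ 2 = d * c * c := by rw [pow_two]; group
            _ = k * c * (d * c) := by conv_lhs => rw [hrel]
                                      group
            _ = k * (c * k) * (c * d) := by rw [hrel]; group
            _ = k * (k * c) * (c * d) := by rw [hkc c hc]
            _ = k ^ 2 * (c ^ 2 * d) := by rw [pow_two, pow_two]; group
        have e2 : d * k ^ 2 = k ^ 2 * d := (Commute.pow_right (hkc d hd) 2).eq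
        calc d ^ 2 * c ^ 2 = d * (d * c ^ 2) := by rw [pow_two d]; group
          _ = d * k ^ 2 * (c ^ 2 * d) := by rw [e1]; group
          _ = k ^ 2 * (d * c ^ 2) * d := by rw [e2]; group
          _ = k ^ 2 * k ^ 2 * (c ^ 2 * d ^ 2) := by rw [e1, pow_two d]; group
          _ = c ^ 2 * d ^ 2 := by rw [← pow_add, show 2 + 2 = 4 from rfl, hexp, one_mul]
      have hw : k * (c ^ 2 * d ^ 2) = c ^ 2 * d ^ 2 * k :=
        ((Commute.pow_left (hkc c hc) 2).mul_left (Commute.pow_left (hkc d hd) 2)).eq.symm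
      have h4 := hexp (c * d)
      rw [show (4 : ℕ) = 2 * 2 from rfl, pow_mul, hcd2, pow_two, hw] at h4
      calc k * k = k * (c ^ 4 * d ^ 4) * k := by simp [hexp]
        _ = k * (c ^ 2 * (c ^ 2 * d ^ 2) * d ^ 2) * k := by
          rw [show (4 : ℕ) = 2 + 2 from rfl, pow_add, pow_add]; group
        _ = k * (c ^ 2 * (d ^ 2 * c ^ 2) * d ^ 2) * k := by rw [hdc2]
        _ = k * (c ^ 2 * d ^ 2) * (c ^ 2 * d ^ 2 * k) := by group
        _ = 1 := by rw [hw]; exact h4
    refine ⟨k, ?_, hrel⟩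
    rcases hpa k hkA with h | h | h | h
    · exact Or.inl h
    · rw [h, ← pow_two] at hk2
      exact absurd hk2 ha2
    · exact Or.inr (h.trans hz.symm)
    · rw [h, ← pow_add, show 3 + 3 = 4 + 2 from rfl, pow_add, hexp, one_mul] at hk2
      exact absurd hk2 ha2
  have hp4 : ∀ g : G, g * g * (g * g) = 1 := fun g => by rw [← hexp g]; simp [pow_succ, mul_assoc]
  have hsq : ∀ c ∈ C, c * c = 1 ∨ c * c = z := by
    intro c hc
    have hcen : (⟨c * c, mul_mem hc hc⟩ : C) ∈ Subgroup.center C := by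
      refine Subgroup.mem_center_iff.mpr fun d => Subtype.ext ?_
      obtain ⟨k, hkN, hrel⟩ := hk c hc d d.2
      show (d : G) * (c * c) = c * c * d
      calc (d : G) * (c * c) = (d * c) * c := by group
        _ = k * c * (d * c) := by conv_lhs => rw [hrel]
                                  group
        _ = k * (c * k) * (c * d) := by rw [hrel]; group
        _ = k * k * (c * c * d) := by rw [hNc hkN c]; group
        _ = c * c * d := by rw [(hNinv hkN).2, one_mul]
    have h4 : (c * c) * (c * c) = 1 := hp4 c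
    rcases hpa _ (hcenA _ hcen) with h | h | h | h
    · exact Or.inl h
    · rw [show c * c = a from h, ← pow_two] at h4
      exact absurd h4 ha2
    · exact Or.inr (h.trans hz.symm)
    · rw [show c * c = a ^ 3 from h, ← pow_add, show 3 + 3 = 4 + 2 from rfl, pow_add, hexp, one_mul] at h4
      exact absurd h4 ha2
  -- the twisted differences
  let δ : G → G := fun c => x * c * x⁻¹ * c⁻¹
  have hxC : ∀ c ∈ C, x * c * x⁻¹ ∈ C := fun c hc => hCn.conj_mem c hc x
  have hcomm : ∀ c ∈ C, c * (x * c * x⁻¹) = x * c * x⁻¹ * c := by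
    intro c hc
    set c' := x * c * x⁻¹ with hc'
    set e := x * x with hedef
    obtain ⟨ζ, hζ, hζr⟩ := hk c' (hxC c hc) c hc
    obtain ⟨μ, hμ, hμr⟩ := hk e he c hc
    have hμ' : c' * e = μ * (e * c') := by
      have h1 : x * (c * e) * x⁻¹ = x * (μ * (e * c)) * x⁻¹ := by rw [hμr]
      have h2 : x * (μ * (e * c)) * x⁻¹ = μ * (e * c') := by
        rw [← mul_assoc, hNc hμ x, hc', hedef]; group
      rw [h2] at h1
      rw [← h1, hc', hedef]; group
    have hee : e * e = 1 := hp4 x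
    have hec : e * c' = μ * (c' * e) := by
      rw [hμ', ← mul_assoc μ μ, (hNinv hμ).2, one_mul]
    have hc'sq : c' * c' = c * c := by
      rw [hc', show x * c * x⁻¹ * (x * c * x⁻¹) = x * (c * c) * x⁻¹ by group, hNc (hsq c hc) x]; group
    have h4 := hp4 (x * c)
    rw [show x * c * (x * c) * (x * c * (x * c)) = (c' * e * c) * (c' * e * c) by rw [hc', hedef]; group] at h4
    have hζ1 : ζ = 1 := by
      calc ζ = ζ * ((c * c) * (c * c)) := by rw [hp4 c, mul_one]
        _ = ζ * ((c' * c') * (e * e) * (c * c)) := by rw [hee, hc'sq, mul_one]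
        _ = ζ * (c' * c' * e * (μ * μ) * (e * c) * c) := by rw [(hNinv hμ).2]; group
        _ = ζ * (c' * c' * (e * μ) * (μ * (e * c)) * c) := by group
        _ = ζ * (c' * c' * (μ * e) * (μ * (e * c)) * c) := by rw [hNc hμ e]
        _ = ζ * (c' * (c' * μ) * e * (c * e) * c) := by rw [hμr]; group
        _ = ζ * (c' * (μ * c') * e * (c * e) * c) := by rw [hNc hμ c']
        _ = ζ * (c' * (μ * (c' * e)) * c * e * c) := by group
        _ = ζ * c' * e * c' * (c * e * c) := by rw [← hec]; group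
        _ = c' * e * ζ * (c' * c) * (e * c) := by rw [← hNc hζ c', mul_assoc c' ζ e, ← hNc hζ e]; group
        _ = c' * e * (c * c') * (e * c) := by rw [hζr]; group
        _ = 1 := by rw [← h4]; group
    rw [hζr, hζ1, one_mul]
  have hd2 : ∀ c ∈ C, δ c * δ c = 1 := by
    intro c hc
    set c' := x * c * x⁻¹ with hc'
    have hc'sq : c' * c' = c * c := by
      rw [hc', show x * c * x⁻¹ * (x * c * x⁻¹) = x * (c * c) * x⁻¹ by group, hNc (hsq c hc) x]; group
    have hcomm' : c⁻¹ * c' = c' * c⁻¹ := (Commute.inv_left (show Commute c c' from hcomm c hc)).eq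
    show c' * c⁻¹ * (c' * c⁻¹) = 1
    calc c' * c⁻¹ * (c' * c⁻¹) = c' * (c⁻¹ * c') * c⁻¹ := by group
      _ = c' * c' * c⁻¹ * c⁻¹ := by rw [hcomm']; group
      _ = 1 := by rw [hc'sq]; group
  have hdC : ∀ c ∈ C, δ c ∈ C := fun c hc => mul_mem (hxC c hc) (inv_mem hc)
  have hdinv : ∀ c ∈ C, (δ c)⁻¹ = δ c := fun c hc => inv_eq_of_mul_eq_one_right (hd2 c hc)
  have hdmul : ∀ c ∈ C, ∀ d ∈ C, ∃ κ, (κ = 1 ∨ κ = z) ∧ δ (c * d) = κ * (δ d * δ c) := by
    intro c hc d hd
    obtain ⟨κ, hκ, hκr⟩ := hk (δ d) (hdC d hd) (x * c * x⁻¹) (hxC c hc)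
    refine ⟨κ, hκ, ?_⟩
    show x * (c * d) * x⁻¹ * (c * d)⁻¹ = κ * (δ d * δ c)
    calc x * (c * d) * x⁻¹ * (c * d)⁻¹ = x * c * x⁻¹ * δ d * c⁻¹ := by simp only [δ]; group
      _ = κ * (δ d * δ c) := by rw [hκr]; simp only [δ]; group
  have hdcomm : ∀ c ∈ C, ∀ d ∈ C, δ c * δ d = δ d * δ c := by
    intro c hc d hd
    obtain ⟨κ, hκ, hκr⟩ := hdmul c hc d hd
    have h1 := hd2 (c * d) (mul_mem hc hd)
    rw [hκr] at h1
    have h2 : (δ d * δ c) * (δ d * δ c) = 1 := by
      calc (δ d * δ c) * (δ d * δ c) = κ * κ * ((δ d * δ c) * (δ d * δ c)) := by rw [(hNinv hκ).2, one_mul]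
        _ = κ * (δ d * δ c) * (κ * (δ d * δ c)) := by
          rw [← mul_assoc (κ * (δ d * δ c)) κ, mul_assoc κ (δ d * δ c) κ, hNc hκ (δ d * δ c)]; group
        _ = 1 := h1
    calc δ c * δ d = (δ d * δ c)⁻¹ := by rw [mul_inv_rev, hdinv c hc, hdinv d hd]
      _ = δ d * δ c := inv_eq_of_mul_eq_one_right h2
  let K : Subgroup G :=
    { carrier := {g | ∃ k c, (k = 1 ∨ k = z) ∧ c ∈ C ∧ g = k * δ c}
      mul_mem' := by
        rintro _ _ ⟨k, c, hk, hc, rfl⟩ ⟨l, d, hl, hd, rfl⟩
        obtain ⟨κ, hκ, hκr⟩ := hdmul d hd c hc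
        refine ⟨k * l * κ, d * c, hN (hN hk hl) hκ, mul_mem hd hc, ?_⟩
        calc k * δ c * (l * δ d) = k * l * (δ c * δ d) := by
              rw [← mul_assoc (k * δ c) l, mul_assoc k (δ c) l, hNc hl (δ c)]; group
          _ = k * l * κ * δ (d * c) := by
              rw [hκr, ← mul_assoc (k * l * κ) κ, mul_assoc (k * l) κ κ, (hNinv hκ).2, mul_one]
      one_mem' := ⟨1, 1, Or.inl rfl, one_mem C, by simp [δ]⟩
      inv_mem' := by
        rintro _ ⟨k, c, hk, hc, rfl⟩
        exact ⟨k, c, hk, hc, by rw [mul_inv_rev, (hNinv hk).1, hdinv c hc, hNc hk (δ c)]⟩ }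
  have hKcomm : ∀ g ∈ K, ∀ h ∈ K, g * h = h * g := by
    rintro _ ⟨k, c, hk, hc, rfl⟩ _ ⟨l, d, hl, hd, rfl⟩
    calc k * δ c * (l * δ d) = k * (δ c * l) * δ d := by group
      _ = k * l * (δ c * δ d) := by rw [hNc hl (δ c)]; group
      _ = l * k * (δ d * δ c) := by rw [hdcomm c hc d hd, hNc hl k]
      _ = l * (k * δ d) * δ c := by group
      _ = l * δ d * (k * δ c) := by rw [← hNc hk (δ d)]; group
  have hK2 : ∀ g ∈ K, g * g = 1 := by
    rintro _ ⟨k, c, hk, hc, rfl⟩
    calc k * δ c * (k * δ c) = k * (δ c * k) * δ c := by group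
      _ = k * k * (δ c * δ c) := by rw [hNc hk (δ c)]; group
      _ = 1 := by rw [(hNinv hk).2, hd2 c hc, one_mul]
  have hzero : ∀ k, (k = 1 ∨ k = z) → k ∈ K := fun k hk => ⟨k, 1, hk, one_mem C, by simp [δ]⟩
  -- commutators lie in `K`
  have hCC : ∀ c ∈ C, ∀ d ∈ C, ⁅c, d⁆ ∈ K := by
    intro c hc d hd
    obtain ⟨k, hkN, hrel⟩ := hk d hd c hc
    refine hzero _ ?_
    rw [show ⁅c, d⁆ = k from by rw [commutatorElement_def, hrel]; group]
    exact hkN
  have hXC : ∀ c ∈ C, ∀ d ∈ C, ⁅x * c, d⁆ ∈ K := by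
    intro c hc d hd
    obtain ⟨k, hkN, hrel⟩ := hk d hd c hc
    refine ⟨k, d, hkN, hd, ?_⟩
    calc ⁅x * c, d⁆ = x * (c * d) * c⁻¹ * x⁻¹ * d⁻¹ := by rw [commutatorElement_def]; group
      _ = x * k * d * x⁻¹ * d⁻¹ := by rw [hrel]; group
      _ = k * δ d := by rw [hNc hkN x]; simp only [δ]; group
  have hG : ⁅(⊤ : Subgroup G), ⊤⁆ ≤ K := by
    refine Subgroup.commutator_le.mpr fun g _ h _ => ?_
    rcases hsplit g with hg | ⟨c, hc, rfl⟩ <;> rcases hsplit h with hh | ⟨d, hd, rfl⟩
    · exact hCC g hg h hh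
    · rw [← commutatorElement_inv]; exact inv_mem (hXC d hd g hg)
    · exact hXC c hc h hh
    · obtain ⟨k, f, hkN, hf, hkf⟩ := hXC c hc (c⁻¹ * d) (mul_mem (inv_mem hc) hd)
      have h1 : ⁅x * c, x * d⁆ = x * c * (k * δ f) * (x * c)⁻¹ := by
        rw [← hkf, commutatorElement_def, commutatorElement_def]; group
      obtain ⟨l, hl, hlr⟩ := hk (δ f) (hdC f hf) c hc
      refine ⟨k * l, x * f * x⁻¹, hN hkN hl, hxC f hf, ?_⟩
      rw [h1]
      calc x * c * (k * δ f) * (x * c)⁻¹ = (x * c * k) * δ f * c⁻¹ * x⁻¹ := by group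
        _ = k * (x * (c * δ f) * c⁻¹ * x⁻¹) := by rw [hNc hkN (x * c)]; group
        _ = k * (x * l * δ f * x⁻¹) := by rw [hlr]; group
        _ = k * l * δ (x * f * x⁻¹) := by rw [hNc hl x]; simp only [δ]; group
  set D : Subgroup G := ⁅(⊤ : Subgroup G), (⊤ : Subgroup G)⁆ with hD
  haveI : D.Characteristic := inferInstance
  haveI := hcyc D inferInstance (show IsMulCommutative D from ⟨⟨fun u v => Subtype.ext (hKcomm u (hG u.2) v (hG v.2))⟩⟩)
  refine hsmall D inferInstance ?_
  rw [← IsCyclic.exponent_eq_card (α := D)]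
  exact Nat.le_of_dvd (by norm_num) (Monoid.exponent_dvd_of_forall_pow_eq_one fun u =>
    Subtype.ext (by rw [pow_two]; exact hK2 u (hG u.2)))

variable {F : Type*} [Field F] {ι : Type} [Fintype ι] [DecidableEq ι]

/-- The commutators of an absolutely irreducible 2-group of symplectic type are scalars. -/
theorem typeTwo_scalarComm [Finite F] [Nonempty ι] {R : Subgroup (GL ι F)} (hS : Geo.IsSymplecticTypeGroup 2 R)
    (habs : Geo.ActsAbsolutelyIrreducibly (Geo.matrixSet R)) : ScalarComm R := by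
  haveI : Fact (Nat.Prime 2) := ⟨Nat.prime_two⟩
  haveI : Group.IsNilpotent R := hS.pGroup.isNilpotent
  have hexp : ∀ g : R, g ^ 4 = 1 := by
    intro g
    have h := Monoid.pow_exponent_eq_one g
    rwa [hS.exponent_eq] at h
  have hc := commutator_le_center_of_exponent_four hexp hS.cyclic_of_characteristic
  refine ⟨habs, fun u hu v hv => mem_scalars_of_commute habs fun w hw => ?_⟩
  have hmem := hc (Subgroup.commutator_mem_commutator (H₁ := (⊤ : Subgroup R)) (H₂ := ⊤)
    (g₁ := ⟨u, hu⟩) (g₂ := ⟨v, hv⟩) trivial trivial)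
  exact (congrArg Subtype.val (Subgroup.mem_center_iff.mp hmem ⟨w, hw⟩)).symm

/-- The order determines the dimension. -/
theorem typeTwo_dim [Fintype F] [Nonempty ι] {R : Subgroup (GL ι F)} (hS : Geo.IsSymplecticTypeGroup 2 R)
    (habs : Geo.ActsAbsolutelyIrreducibly (Geo.matrixSet R)) {k : ℕ} (hcard : Nat.card R = 2 ^ (1 + 2 * k))
    (hZ : Nat.card (Subgroup.center R) = 2) : Fintype.card ι = 2 ^ k := by
  have h := (typeTwo_scalarComm hS habs).card_eq
  rw [hcard, hZ, pow_add, pow_one, mul_comm 2] at h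
  refine Nat.pow_left_injective two_ne_zero (?_ : Fintype.card ι ^ 2 = (2 ^ k) ^ 2)
  rw [← pow_mul, mul_comm k]
  exact (mul_right_cancel₀ two_ne_zero h).symm

/-- The symplectic group normalises no absolutely irreducible 2-group of similitudes. -/
theorem sp_not_le_typeTwoNormalizer [Fintype F] {m : ℕ} (hm : 2 ≤ m) (hodd : Odd (Fintype.card F))
    {R : Subgroup (GL (Fin m ⊕ Fin m) F)} (hS : Geo.IsSymplecticTypeGroup 2 R)
    (habs : Geo.ActsAbsolutelyIrreducibly (Geo.matrixSet R)) (hsim : R ≤ Geo.similarityGroup (sympForm m F)) :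
    ¬ spGL m F ≤ Geo.subgroupNormalizer R := by
  classical
  intro hle
  have hf := MaxSub.isSymplecticForm_sympForm (m := m) (F := F)
  haveI : Nonempty (Fin m ⊕ Fin m) := ⟨Sum.inl ⟨0, by omega⟩⟩
  have h2 := two_ne_zero_of_odd hodd
  obtain ⟨p, hp⟩ := CharP.exists F
  have hpp : p.Prime := CharP.char_is_prime F p
  have hp2 : p ≠ 2 := fun e => h2 (by have := CharP.cast_eq_zero F p; rw [e] at this; exact_mod_cast this)
  have hord : ∀ g ∈ R, ∃ n : ℕ, g ^ 2 ^ n = 1 := by
    intro g hg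
    obtain ⟨n, hn⟩ := hS.pGroup ⟨g, hg⟩
    exact ⟨n, congrArg Subtype.val hn⟩
  -- only scalars commute with every symplectic transvection
  have hscal : ∀ g : GL (Fin m ⊕ Fin m) F, (∀ v, ∃ c : F, (g : Matrix (Fin m ⊕ Fin m) (Fin m ⊕ Fin m) F) *ᵥ v = c • v) →
      g ∈ Geo.scalars (Fin m ⊕ Fin m) F := by
    intro g hg
    set o : Fin m ⊕ Fin m := Sum.inl ⟨0, by omega⟩ with ho
    choose c hc using fun i : Fin m ⊕ Fin m => hg (Pi.single i 1)
    refine mem_scalars_of_smul (c := c o) (Matrix.ext_of_mulVec_single fun i => ?_)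
    rw [Matrix.smul_mulVec, Matrix.one_mulVec, hc i]
    rcases eq_or_ne i o with rfl | hio
    · rfl
    obtain ⟨d, hd⟩ := hg (Pi.single i 1 + Pi.single o 1)
    rw [Matrix.mulVec_add, hc, hc] at hd
    have e1 := congrFun hd i
    have e2 := congrFun hd o
    simp [hio, hio.symm] at e1 e2
    rw [e1, e2]
  -- an isometric involution of the group is a scalar
  have hinv : ∀ y ∈ R, y ∈ spGL m F → y * y = 1 → y ∈ Geo.scalars (Fin m ⊕ Fin m) F := by
    intro y hy hyI hyy
    refine hscal y fun v => ?_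
    set w := (y : Matrix (Fin m ⊕ Fin m) (Fin m ⊕ Fin m) F) *ᵥ v with hw
    have hwv : (y : Matrix (Fin m ⊕ Fin m) (Fin m ⊕ Fin m) F) *ᵥ w = v := by
      rw [hw, Matrix.mulVec_mulVec, ← Units.val_mul, hyy, Units.val_one, Matrix.one_mulVec]
    have h0 : (sympForm m F) v w = 0 := by
      have h1 : (sympForm m F) w v = (sympForm m F) v w := by
        have h3 := MaxSub.Asch.mem_spGL.mp hyI v w
        rwa [← hw, hwv] at h3
      have h3 := hf.skew v w
      rw [h1] at h3
      exact (mul_eq_zero.mp (show (2 : F) * (sympForm m F) v w = 0 by linear_combination h3)).resolve_left h2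
    by_contra hcon
    push Not at hcon
    -- the commutator with the transvection at `v`
    set t := MaxSub.st (sympForm m F) v 1
    have ht : t ∈ spGL m F := st_mem_spGL v 1
    set g := t * y * t⁻¹ * y⁻¹ with hg
    have hgR : g ∈ R := mul_mem ((Subgroup.mem_normalizer_iff.mp (hle ht) y).mp hy) (inv_mem hy)
    have hconj : y * t⁻¹ * y⁻¹ = MaxSub.st (sympForm m F) w (-1) := by
      have h3 := MaxSub.st_conj hf (v := v) (g := y) (by rw [← MaxSub.spGL_eq_isom]; exact hyI) (-1)
      rw [← h3]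
      congr 2
      refine inv_eq_of_mul_eq_one_right (Units.ext ?_)
      rw [Units.val_mul, st_coe, st_coe, Units.val_one]
      have hE : Matrix.vecMulVec v (MaxSub.rep (sympForm m F) v) * Matrix.vecMulVec v (MaxSub.rep (sympForm m F) v) = 0 := by
        rw [Matrix.vecMulVec_mul_vecMulVec, show MaxSub.rep (sympForm m F) v ⬝ᵥ v = 0 by
          rw [MaxSub.rep_dot hf.bilinear, hf.alternating]]
        simp
      simp [mul_add, add_mul, hE]
    set E := Matrix.vecMulVec v (MaxSub.rep (sympForm m F) v) with hE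
    set E' := Matrix.vecMulVec w (MaxSub.rep (sympForm m F) w) with hE'
    have hgv : (g : Matrix (Fin m ⊕ Fin m) (Fin m ⊕ Fin m) F) = 1 + (E - E') := by
      rw [hg, show t * y * t⁻¹ * y⁻¹ = t * (y * t⁻¹ * y⁻¹) by group, hconj, Units.val_mul, st_coe, st_coe, ← hE, ← hE']
      have hEE' : E * E' = 0 := by
        rw [hE, hE', Matrix.vecMulVec_mul_vecMulVec, show MaxSub.rep (sympForm m F) v ⬝ᵥ w = 0 by
          rw [MaxSub.rep_dot hf.bilinear, hf.skew, h0, neg_zero]]
        simp
      simp [mul_add, add_mul, hEE', sub_eq_add_neg, add_assoc]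
    have hN : (E - E') * (E - E') = 0 := by
      have z1 : MaxSub.rep (sympForm m F) v ⬝ᵥ v = 0 := by rw [MaxSub.rep_dot hf.bilinear, hf.alternating]
      have z2 : MaxSub.rep (sympForm m F) w ⬝ᵥ w = 0 := by rw [MaxSub.rep_dot hf.bilinear, hf.alternating]
      have z3 : MaxSub.rep (sympForm m F) w ⬝ᵥ v = 0 := by rw [MaxSub.rep_dot hf.bilinear, h0]
      have z4 : MaxSub.rep (sympForm m F) v ⬝ᵥ w = 0 := by rw [MaxSub.rep_dot hf.bilinear, hf.skew, h0, neg_zero]
      simp [hE, hE', sub_mul, mul_sub, Matrix.vecMulVec_mul_vecMulVec, z1, z2, z3, z4]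
    have hpow : ∀ k : ℕ, (g : Matrix (Fin m ⊕ Fin m) (Fin m ⊕ Fin m) F) ^ k = 1 + (k : F) • (E - E') := by
      intro k
      induction k with
      | zero => simp
      | succ k ih =>
        rw [pow_succ, ih, hgv, add_mul, one_mul, Matrix.smul_mul, mul_add, mul_one, hN, add_zero]
        push_cast
        rw [add_smul, one_smul]
        abel
    have hg1 : g = 1 := by
      obtain ⟨n, hn⟩ := hord g hgR
      have hgp : g ^ p = 1 := Units.ext (by rw [Units.val_pow_eq_pow_val, hpow, CharP.cast_eq_zero]; simp)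
      have hcop : Nat.Coprime (2 ^ n) p := Nat.Coprime.pow_left n ((Nat.coprime_primes Nat.prime_two hpp).mpr (Ne.symm hp2))
      have h4 := pow_gcd_eq_one.mpr ⟨hn, hgp⟩
      rwa [Nat.coprime_iff_gcd_eq_one.mp hcop, pow_one] at h4
    have hEE : E = E' := by
      have h5 := congrArg Units.val hg1
      rw [hgv, Units.val_one, add_eq_left] at h5
      exact sub_eq_zero.mp h5
    have hv : v ≠ 0 := fun e => hcon 0 (by simp [hw, e])
    obtain ⟨u, hu⟩ := (hf.nondegenerate v hv).1
    have h6 := congrArg (fun M => M *ᵥ u) hEE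
    simp only [hE, hE', Matrix.vecMulVec_mulVec, MaxSub.rep_dot hf.bilinear, op_smul_eq_smul] at h6
    by_cases huw : (sympForm m F) u w = 0
    · rw [huw, zero_smul] at h6
      exact hu ((smul_eq_zero.mp h6).resolve_right hv)
    · exact hcon (((sympForm m F) u w)⁻¹ * (sympForm m F) u v) (by rw [mul_smul, h6, smul_smul, inv_mul_cancel₀ huw, one_smul, hw])
  -- every element is centralised by the transvections
  have hall : ∀ x ∈ R, x ∈ Geo.scalars (Fin m ⊕ Fin m) F := by
    intro x hx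
    refine hscal x fun v => ?_
    rcases eq_or_ne v 0 with rfl | hv
    · exact ⟨1, by simp⟩
    set t := MaxSub.st (sympForm m F) v 1 with htdef
    have ht : t ∈ spGL m F := st_mem_spGL v 1
    set g := t * x * t⁻¹ * x⁻¹ with hg
    have hgR : g ∈ R := mul_mem ((Subgroup.mem_normalizer_iff.mp (hle ht) x).mp hx) (inv_mem hx)
    have hgI : g ∈ spGL m F := by
      rw [hg, show t * x * t⁻¹ * x⁻¹ = t * (x * t⁻¹ * x⁻¹) by group]
      refine mul_mem ht (MaxSub.Asch.mem_spGL.mpr fun a b => ?_)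
      obtain ⟨c, hc⟩ := hsim hx
      obtain ⟨c', hc'⟩ := hsim (inv_mem hx)
      have hcc : (c : F) * (c' : F) = 1 := by
        obtain ⟨u, hu⟩ := (hf.nondegenerate v hv).1
        have h3 := hc (((x⁻¹ : GL (Fin m ⊕ Fin m) F) : Matrix (Fin m ⊕ Fin m) (Fin m ⊕ Fin m) F) *ᵥ u)
          (((x⁻¹ : GL (Fin m ⊕ Fin m) F) : Matrix (Fin m ⊕ Fin m) (Fin m ⊕ Fin m) F) *ᵥ v)
        rw [MaxSub.mulVec_inv_mulVec, MaxSub.mulVec_inv_mulVec, hc', ← mul_assoc] at h3
        exact mul_right_cancel₀ hu (by rw [one_mul]; exact h3.symm)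
      rw [Units.val_mul, Units.val_mul, ← Matrix.mulVec_mulVec, ← Matrix.mulVec_mulVec, ← Matrix.mulVec_mulVec,
        ← Matrix.mulVec_mulVec, hc, MaxSub.Asch.mem_spGL.mp (inv_mem ht), hc', ← mul_assoc, hcc, one_mul]
    obtain ⟨u, hu0, hu1, hu2⟩ := exists_mulVec_kills (by simp; omega) (MaxSub.rep (sympForm m F) v)
      (Matrix.vecMul (MaxSub.rep (sympForm m F) v) ((x⁻¹ : GL (Fin m ⊕ Fin m) F) : Matrix (Fin m ⊕ Fin m) (Fin m ⊕ Fin m) F))
    have hfix : (g : Matrix (Fin m ⊕ Fin m) (Fin m ⊕ Fin m) F) *ᵥ u = u := by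
      rw [← Matrix.dotProduct_mulVec] at hu2
      have e1 : (t : Matrix (Fin m ⊕ Fin m) (Fin m ⊕ Fin m) F) *ᵥ u = u := by
        rw [htdef, st_coe, one_smul, Matrix.add_mulVec, Matrix.one_mulVec, Matrix.vecMulVec_mulVec, hu1]
        simp
      have e2 : ((t⁻¹ : GL (Fin m ⊕ Fin m) F) : Matrix (Fin m ⊕ Fin m) (Fin m ⊕ Fin m) F) *ᵥ
          (((x⁻¹ : GL (Fin m ⊕ Fin m) F) : Matrix (Fin m ⊕ Fin m) (Fin m ⊕ Fin m) F) *ᵥ u) =
          ((x⁻¹ : GL (Fin m ⊕ Fin m) F) : Matrix (Fin m ⊕ Fin m) (Fin m ⊕ Fin m) F) *ᵥ u := by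
        apply MaxSub.mulVec_injective t
        show _ *ᵥ _ = _ *ᵥ _
        rw [MaxSub.mulVec_inv_mulVec, htdef, st_coe, one_smul, Matrix.add_mulVec, Matrix.one_mulVec,
          Matrix.vecMulVec_mulVec, hu2]
        simp
      rw [hg, Units.val_mul, Units.val_mul, Units.val_mul, ← Matrix.mulVec_mulVec, ← Matrix.mulVec_mulVec,
        ← Matrix.mulVec_mulVec, e2, MaxSub.mulVec_inv_mulVec, e1]
    have hg1 : g = 1 := by
      by_contra hne
      obtain ⟨n, hn⟩ := hord g hgR
      let P : ℕ → Prop := fun i => g ^ 2 ^ i = 1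
      have hex : ∃ i, P i := ⟨n, hn⟩
      set i₀ := Nat.find hex with hi₀
      have hi₀s : g ^ 2 ^ i₀ = 1 := Nat.find_spec hex
      obtain ⟨j, hj⟩ : ∃ j, i₀ = j + 1 := by
        rcases Nat.eq_zero_or_pos i₀ with h0 | h0
        · rw [h0, pow_zero, pow_one] at hi₀s; exact absurd hi₀s hne
        · exact ⟨i₀ - 1, by omega⟩
      set y := g ^ 2 ^ j with hy
      have hy1 : y ≠ 1 := Nat.find_min hex (show j < Nat.find hex by omega)
      have hyy : y * y = 1 := by
        rw [hy, ← pow_two, ← pow_mul, ← pow_succ, ← hj]; exact hi₀s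
      obtain ⟨c, hc⟩ := (Geo.mem_scalars_iff y).mp (hinv y (pow_mem hgR _) (pow_mem hgI _) hyy)
      have hyu : (y : Matrix (Fin m ⊕ Fin m) (Fin m ⊕ Fin m) F) *ᵥ u = u := by
        rw [hy, Units.val_pow_eq_pow_val]
        generalize 2 ^ j = k
        induction k with
        | zero => simp
        | succ k ih => rw [pow_succ, ← Matrix.mulVec_mulVec, hfix, ih]
      rw [hc, Matrix.smul_mulVec, Matrix.one_mulVec] at hyu
      have hc1 : (c : F) = 1 := smul_left_injective F hu0 (hyu.trans (one_smul F u).symm)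
      exact hy1 (Units.ext (by rw [hc, hc1, one_smul, Units.val_one]))
    have hcom : t * x = x * t := by
      have h5 := hg1
      rw [hg, mul_inv_eq_one, mul_inv_eq_iff_eq_mul] at h5
      exact h5
    have h6 := congrArg Units.val hcom
    rw [Units.val_mul, Units.val_mul, htdef, st_coe, one_smul, add_mul, mul_add, one_mul, mul_one, add_right_inj] at h6
    obtain ⟨a, ha⟩ := (hf.nondegenerate v hv).1
    refine ⟨((sympForm m F) a v)⁻¹ * (sympForm m F) ((x : Matrix (Fin m ⊕ Fin m) (Fin m ⊕ Fin m) F) *ᵥ a) v, ?_⟩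
    have h7 := congrArg (fun M : Matrix _ _ F => M *ᵥ a) h6
    simp only [← Matrix.mulVec_mulVec, Matrix.vecMulVec_mulVec, MaxSub.rep_dot hf.bilinear, op_smul_eq_smul,
      Matrix.mulVec_smul] at h7
    rw [mul_smul, h7, smul_smul, inv_mul_cancel₀ ha, one_smul]
  exact irr_not_le_scalars (irr_iff.mpr habs.1) (by simp; omega) hall

end Cfsg.Agent.Aschbacher
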