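import Cfsg.Agent.Aschbacher.Symp.Basics
import Cfsg.Agent.Aschbacher.Symp.Fields
import Cfsg.Agent.Aschbacher.Symp.Six
import Cfsg.Agent.Aschbacher.Composite.Exceptions

/-!
The list of maximal subgroups of a symplectic group of dimension at least four, with the side conditions in the form
the statements need them.
-/

set_option autoImplicit false
set_option linter.unusedSectionVars false
set_option linter.style.haveILetI false

namespace Cfsg.Agent.Aschbacher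

open scoped MatrixGroups Matrix
open Module

variable {F : Type*} [Field F] [Fintype F] {m : ℕ}

local notation "V" => (Fin m ⊕ Fin m → F)

/-- The stabiliser of a totally singular subspace. -/
def SpSub (H : Subgroup (GL (Fin m ⊕ Fin m) F)) : Prop :=
  ∃ W : Submodule F V, W ≠ ⊥ ∧ Geo.IsTotallySingularFor (sympForm m F) W ∧
    H = Geo.subspaceStabilizer W ⊓ spGL m F

/-- The stabiliser of a non-degenerate subspace. -/
def SpNd (H : Subgroup (GL (Fin m ⊕ Fin m) F)) : Prop :=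
  ∃ W : Submodule F V, W ≠ ⊥ ∧ Geo.IsNondegenerateOn (sympForm m F) W ∧ finrank F W < m ∧
    H = Geo.subspaceStabilizer W ⊓ spGL m F

/-- The stabiliser of an orthogonal decomposition. -/
def SpDec (t k : ℕ) (H : Subgroup (GL (Fin m ⊕ Fin m) F)) : Prop :=
  ∃ D : Fin t → Submodule F V, Geo.IsNondegenerateMDecomposition (sympForm m F) k D ∧
    H = Geo.decompositionStabilizer D ⊓ spGL m F

/-- The stabiliser of a pair of totally singular subspaces. -/
def SpPair (H : Subgroup (GL (Fin m ⊕ Fin m) F)) : Prop :=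
  ∃ D : Fin 2 → Submodule F V, Geo.IsMDecomposition m D ∧
    (∀ i, Geo.IsTotallySingularFor (sympForm m F) (D i)) ∧ H = Geo.decompositionStabilizer D ⊓ spGL m F

/-- The normaliser of a self-adjoint field. -/
def SpField (r : ℕ) (H : Subgroup (GL (Fin m ⊕ Fin m) F)) : Prop :=
  ∃ K : Subalgebra F (Matrix (Fin m ⊕ Fin m) (Fin m ⊕ Fin m) F), Geo.IsFieldSubalgebra r K ∧
    Geo.IsSelfAdjointFor (sympForm m F) K ∧ (∀ k ∈ K, ∀ v : V, (sympForm m F) (Matrix.mulVec k v) v = 0) ∧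
    H = Geo.subalgebraNormalizer K ⊓ spGL m F

/-- The normaliser of a field with a non-trivial adjoint. -/
def SpUnit (H : Subgroup (GL (Fin m ⊕ Fin m) F)) : Prop :=
  ∃ K : Subalgebra F (Matrix (Fin m ⊕ Fin m) (Fin m ⊕ Fin m) F), Geo.IsFieldSubalgebra 2 K ∧
    Geo.IsAdjointClosedFor (sympForm m F) K ∧ ¬ Geo.IsSelfAdjointFor (sympForm m F) K ∧
    H = Geo.subalgebraNormalizer K ⊓ spGL m F

/-- The stabiliser of a tensor decomposition. -/
def SpTensor (a b : ℕ) (H : Subgroup (GL (Fin m ⊕ Fin m) F)) : Prop :=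
  ∃ (e : (Fin m ⊕ Fin m) ≃ Fin a × Fin b) (P : GL (Fin m ⊕ Fin m) F) (f₁ : (Fin a → F) → (Fin a → F) → F)
    (f₂ : (Fin b → F) → (Fin b → F) → F), Geo.IsSymplecticForm f₁ ∧ Geo.IsSymmetricForm f₂ ∧
    Geo.IsTensorFormStructure id (sympForm m F) f₁ f₂ e P ∧ H = Geo.tensorProductSubgroup a b e P ⊓ spGL m F

/-- A subfield group. -/
def SpSubfield (H : Subgroup (GL (Fin m ⊕ Fin m) F)) : Prop :=
  ∃ (F₀ : Subfield F) (r : ℕ) (P : GL (Fin m ⊕ Fin m) F) (ζ : F), r.Prime ∧ Fintype.card F = Nat.card F₀ ^ r ∧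
    ζ ≠ 0 ∧ Geo.IsFormRationalStructure (sympForm m F) F₀ ζ P ∧ H = Geo.subfieldSubgroup F₀ P ⊓ spGL m F

/-- The normaliser of a group of symplectic type. -/
def SpSix (k : ℕ) (H : Subgroup (GL (Fin m ⊕ Fin m) F)) : Prop :=
  ∃ (p : ℕ) (R : Subgroup (GL (Fin m ⊕ Fin m) F)), p.Prime ∧ Odd p ∧ Fintype.card F = p ∧
    Geo.IsSymplecticTypeGroup 2 R ∧ Geo.ActsAbsolutelyIrreducibly (Geo.matrixSet R) ∧
    R ≤ Geo.similarityGroup (sympForm m F) ∧ Nat.card R = 2 ^ (1 + 2 * k) ∧ Nat.card (Subgroup.center R) = 2 ∧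
    Geo.IsOfMinusType k R ∧ H = Geo.subgroupNormalizer R ⊓ spGL m F

/-- The stabiliser of a tensor power. -/
def SpWreath (d t : ℕ) (H : Subgroup (GL (Fin m ⊕ Fin m) F)) : Prop :=
  ∃ (e : (Fin m ⊕ Fin m) ≃ (Fin t → Fin d)) (P : GL (Fin m ⊕ Fin m) F) (f₁ : (Fin d → F) → (Fin d → F) → F),
    Geo.IsSymplecticForm f₁ ∧ Geo.IsTensorPowerFormStructure id (sympForm m F) f₁ e P ∧
    H = Geo.tensorWreathSubgroup d t e P ⊓ spGL m F

/-- The orthogonal group in characteristic two. -/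
def SpQuad (H : Subgroup (GL (Fin m ⊕ Fin m) F)) : Prop :=
  ∃ Q : V → F, Geo.IsNondegenerateQuadraticForm Q ∧
    (∀ u v : V, QuadraticMap.polar Q u v = (sympForm m F) u v) ∧ H = Geo.quadSimilarityGroup Q ⊓ spGL m F

theorem lt_pow_of_subfield {F₀ : Subfield F} {r : ℕ} (hr : r.Prime) (hc : Fintype.card F = Nat.card F₀ ^ r) :
    F₀ ≠ ⊤ := by
  intro ht
  rw [(subfield_eq_top_iff F₀).mp ht] at hc
  exact absurd hc (Nat.ne_of_lt (lt_self_pow₀ Fintype.one_lt_card hr.one_lt))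

theorem quadCase_of_le_sp (hm : 2 ≤ m) {H : Subgroup (GL (Fin m ⊕ Fin m) F)}
    (hH : Geo.IsMaximalIn (spGL m F) H) (heven : ¬ Odd (Fintype.card F)) {Q : V → F}
    (hQ : Geo.IsNondegenerateQuadraticForm Q) (hpol : ∀ u v : V, QuadraticMap.polar Q u v = (sympForm m F) u v)
    (hle : H ≤ Geo.quadSimilarityGroup Q) : SpQuad H :=
  ⟨Q, hQ, hpol, eq_inf_of_maximal hH hle (sp_not_le_quadSimilarityGroup hm heven hQ hpol)⟩

theorem dec_card {t k : ℕ} {D : Fin t → Submodule F V} (hD : Geo.IsMDecomposition k D) : t * k = 2 * m := by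
  obtain ⟨b, -⟩ := exists_decomp_basis hD
  have h1 := Module.finrank_eq_card_basis b
  rw [Module.finrank_pi, Fintype.card_sum, Fintype.card_fin, Fintype.card_prod, Fintype.card_fin, Fintype.card_fin] at h1
  omega

/-- The list, one alternative for each class. -/
theorem sp_cases (hm : 2 ≤ m) {H : Subgroup (GL (Fin m ⊕ Fin m) F)} (hH : Geo.IsMaximalIn (spGL m F) H) :
    SpSub H ∨ (SpNd H ∧ 3 ≤ m) ∨
    (∃ t k, 2 ≤ t ∧ 2 ∣ k ∧ 2 ≤ k ∧ t * k = 2 * m ∧ SpDec t k H) ∨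
    (Odd (Fintype.card F) ∧ SpPair H) ∨
    (∃ r, r.Prime ∧ r ∣ m ∧ SpField r H) ∨
    (Odd (Fintype.card F) ∧ SpUnit H) ∨
    (∃ a b, Odd (Fintype.card F) ∧ 2 ∣ a ∧ 2 ≤ a ∧ 3 ≤ b ∧ a * b = 2 * m ∧ SpTensor a b H) ∨
    SpSubfield H ∨
    (∃ k, 2 ^ k = 2 * m ∧ SpSix k H) ∨
    (∃ d t, Odd (Fintype.card F) ∧ 2 ∣ d ∧ 2 ≤ d ∧ 3 ≤ t ∧ d ^ t = 2 * m ∧ ¬ (Fintype.card F = 3 ∧ d = 2) ∧
      SpWreath d t H) ∨
    (¬ Odd (Fintype.card F) ∧ SpQuad H) ∨
    Geo.InSymplecticResidualClass H := by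
  have hf := MaxSub.isSymplecticForm_sympForm (m := m) (F := F)
  haveI : Nonempty (Fin m ⊕ Fin m) := ⟨Sum.inl ⟨0, by omega⟩⟩
  rcases MaxSub.Asch.symplectic_structure (show 1 ≤ m by omega) hH.1.le with ⟨M, hM, hle⟩ | hres
  swap
  · iterate 11 right
    exact hres
  rcases hM with (⟨W, h0, hts, rfl⟩ | ⟨W, h0, hnd, hlt, rfl⟩ | ⟨t, k, D, hD, rfl⟩ | ⟨D, hodd, hD, hts, rfl⟩ |
      ⟨F₀, r, P, ζ, hr, hc, hζ, hP, rfl⟩ | ⟨R, p, k, hS, habs, hsim, hp, hpo, hcp, hcard, hZ, hmin, rfl⟩ |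
      ⟨Q, heven, hQ, hpol, rfl⟩) |
    ⟨r, K, hr, hK, hsa, halt, rfl⟩ | ⟨K, hodd, hK, hac, hns, rfl⟩ |
    ⟨a, b, e, P, f₁, f₂, hodd, hb, hf₁, hf₂, hS, rfl⟩ | ⟨d, t, e, P, f₁, hodd, hto, ht, hex, hf₁, hS, rfl⟩
  all_goals replace hle := hle.trans inf_le_left
  · exact Or.inl ⟨W, h0, hts, eq_inf_of_maximal hH hle
      (sp_not_le_subspaceStabilizer h0 (ts_ne_top (by omega) hts))⟩
  · refine Or.inr (Or.inl ⟨⟨W, h0, hnd, hlt, eq_inf_of_maximal hH hle (sp_not_le_subspaceStabilizer h0 ?_)⟩, ?_⟩)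
    · rintro rfl
      rw [finrank_top, Module.finrank_pi, Fintype.card_sum, Fintype.card_fin] at hlt
      omega
    · have h1 := Nat.le_of_dvd (Nat.pos_of_ne_zero fun e => h0 (Submodule.finrank_eq_zero.mp e))
        (even_finrank_of_nondegenerateOn hf hnd)
      omega
  · right; right; left
    have h1 := even_finrank_of_nondegenerateOn hf (hD.nondegenerate ⟨0, by have := hD.decomp.two_le; omega⟩)
    rw [hD.decomp.finrank_eq] at h1
    exact ⟨t, k, hD.decomp.two_le, h1, Nat.le_of_dvd hD.decomp.pos h1, dec_card hD.decomp, D, hD,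
      eq_inf_of_maximal hH hle (sp_not_le_decompositionStabilizer hD.decomp)⟩
  · right; right; right; left
    exact ⟨hodd, D, hD, hts, eq_inf_of_maximal hH hle (sp_not_le_decompositionStabilizer hD)⟩
  · iterate 7 right
    left
    exact ⟨F₀, r, P, ζ, hr, hc, hζ, hP, eq_inf_of_maximal hH hle
      (sp_not_le_subfieldSubgroup (by omega) (lt_pow_of_subfield hr hc) P)⟩
  · iterate 8 right
    left
    have hdim := typeTwo_dim hS habs hcard hZ
    rw [Fintype.card_sum, Fintype.card_fin, ← two_mul] at hdim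
    exact ⟨k, hdim.symm, p, R, hp, hpo, hcp, hS, habs, hsim, hcard, hZ, hmin, eq_inf_of_maximal hH hle
      (sp_not_le_typeTwoNormalizer hm (hcp ▸ hpo) hS habs hsim)⟩
  · iterate 10 right
    left
    exact ⟨heven, quadCase_of_le_sp hm hH heven hQ hpol hle⟩
  · iterate 4 right
    left
    exact ⟨r, hr, selfAdjoint_degree_dvd hf (by simp; omega) hK hsa halt, K, hK, hsa, halt,
      eq_inf_of_maximal hH hle (sp_not_le_subalgebraNormalizer hm hr.two_le hK)⟩
  · iterate 5 right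
    left
    exact ⟨hodd, K, hK, hac, hns, eq_inf_of_maximal hH hle (sp_not_le_subalgebraNormalizer hm le_rfl hK)⟩
  · iterate 6 right
    left
    have h1 := Fintype.card_congr e
    simp only [Fintype.card_sum, Fintype.card_fin, Fintype.card_prod] at h1
    have h2 := even_card_of_symplectic hf₁
    rw [Fintype.card_fin] at h2
    have h3 : 2 ≤ a := by
      refine Nat.le_of_dvd (Nat.pos_of_ne_zero ?_) h2
      rintro rfl
      omega
    exact ⟨a, b, hodd, h2, h3, hb, by omega, e, P, f₁, f₂, hf₁, hf₂, hS,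
      eq_inf_of_maximal hH hle (sp_not_le_tensorProductSubgroup h3 (by omega) e P)⟩
  · iterate 9 right
    left
    have h1 := Fintype.card_congr e
    simp only [Fintype.card_sum, Fintype.card_fin, Fintype.card_fun] at h1
    have h2 := even_card_of_symplectic hf₁
    rw [Fintype.card_fin] at h2
    have h3 : 2 ≤ d := by
      refine Nat.le_of_dvd (Nat.pos_of_ne_zero ?_) h2
      rintro rfl
      rw [zero_pow (by omega)] at h1
      omega
    exact ⟨d, t, hodd, h2, h3, ht, by omega, hex, e, P, f₁, hf₁, hS,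
      eq_inf_of_maximal hH hle (sp_not_le_tensorWreathSubgroup h3 (by omega) e P)⟩

end Cfsg.Agent.Aschbacher
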