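import Cfsg.Agent.Aschbacher.Symp.Cases

/-!
The four-dimensional symplectic group over three elements: the stabiliser of a pair of totally singular lines is the
stabiliser of an orthogonal decomposition, and the normaliser of a field with non-trivial adjoint is not maximal, as
it permutes the five mutually anticommuting self-adjoint involutions.
-/

set_option autoImplicit false
set_option linter.unusedSectionVars false
set_option linter.style.haveILetI false
set_option linter.unusedSimpArgs false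

namespace Cfsg.Agent.Aschbacher

open scoped MatrixGroups Matrix
open Module

variable {F : Type*} [Field F]

local notation "ι₄" => Fin 2 ⊕ Fin 2
local notation "M₄" => Matrix (Fin 2 ⊕ Fin 2) (Fin 2 ⊕ Fin 2) F
local notation "J₄" => Matrix.J (Fin 2) F

/-- A self-adjoint involution other than the scalars which commutes or anticommutes with the complex structure. -/
def PauliInv (y : M₄) : Prop :=
  y * y = 1 ∧ y ≠ 1 ∧ y ≠ -1 ∧ yᵀ * J₄ = J₄ * y ∧ (y * J₄ = J₄ * y ∨ y * J₄ = -(J₄ * y))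

/-- The complex linear self-adjoint matrices. -/
def linMat (a b c d : F) : M₄ := Matrix.fromBlocks !![a, b; b, d] !![0, c; -c, 0] !![0, -c; c, 0] !![a, b; b, d]

/-- The antilinear self-adjoint matrices. -/
def antiMat (s r : F) : M₄ := Matrix.fromBlocks !![0, s; -s, 0] !![0, r; -r, 0] !![0, r; -r, 0] !![0, -s; s, 0]

/-- A symmetry of the involutions which is not semilinear. -/
def mixMat (F : Type*) [Field F] : Matrix (Fin 2 ⊕ Fin 2) (Fin 2 ⊕ Fin 2) F :=
  Matrix.fromBlocks !![-1, 0; 0, -1] !![0, 0; 0, -1] !![0, 0; 0, -1] !![-1, 0; 0, 1]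

variable [Fintype F]

theorem val_three (hq : Fintype.card F = 3) : (3 : F) = 0 ∧ ∀ x : F, x = 0 ∨ x = 1 ∨ x = -1 := by
  refine ⟨?_, fun x => ?_⟩
  · have := Nat.cast_card_eq_zero F
    rw [hq] at this
    exact_mod_cast this
  · rcases eq_or_ne x 0 with h | h
    · exact Or.inl h
    · have h1 := FiniteField.pow_card_sub_one_eq_one x h
      rw [hq] at h1
      exact Or.inr (sq_eq_one_iff.mp h1)

/-- The involutions. -/
theorem pauliInv_cases (hq : Fintype.card F = 3) {y : M₄} (h : PauliInv y) :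
    y = linMat 1 0 0 (-1) ∨ y = linMat (-1) 0 0 1 ∨ y = linMat 0 1 0 0 ∨ y = linMat 0 (-1) 0 0 ∨
      y = linMat 0 0 1 0 ∨ y = linMat 0 0 (-1) 0 ∨ y = antiMat 1 1 ∨ y = antiMat 1 (-1) ∨ y = antiMat (-1) 1 ∨
      y = antiMat (-1) (-1) := by
  obtain ⟨h3, hv⟩ := val_three hq
  have h2 : (2 : F) ≠ 0 := fun e => one_ne_zero (α := F) (by linear_combination h3 - e)
  have hz : ∀ {x : F}, x = -x → x = 0 := fun {x} e =>
    (mul_eq_zero.mp (show (2 : F) * x = 0 by linear_combination e)).resolve_left h2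
  obtain ⟨hyy, hne1, hne2, hadj, hJ⟩ := h
  obtain ⟨A, B, C, D, rfl⟩ : ∃ A B C D, y = Matrix.fromBlocks A B C D :=
    ⟨_, _, _, _, (Matrix.fromBlocks_toBlocks y).symm⟩
  rw [Matrix.J, Matrix.fromBlocks_transpose, Matrix.fromBlocks_multiply, Matrix.fromBlocks_multiply,
    Matrix.fromBlocks_inj] at hadj
  simp at hadj
  obtain ⟨hC, hD, -, hB⟩ := hadj
  have hB00 : B 0 0 = 0 := hz (by simpa using (congrFun (congrFun hB 0) 0).symm)
  have hB11 : B 1 1 = 0 := hz (by simpa using (congrFun (congrFun hB 1) 1).symm)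
  have hB10 : B 1 0 = - B 0 1 := by simpa [neg_eq_iff_eq_neg] using congrFun (congrFun hB 0) 1
  rcases hJ with hJ | hJ
  · rw [Matrix.J, Matrix.fromBlocks_multiply, Matrix.fromBlocks_multiply, Matrix.fromBlocks_inj] at hJ
    simp at hJ
    obtain ⟨hBC, hAD⟩ : B = -C ∧ A = D := ⟨hJ.1, hJ.2.1⟩
    subst hAD
    obtain rfl : C = -B := by rw [hBC, neg_neg]
    have hA10 : A 1 0 = A 0 1 := by simpa using congrFun (congrFun hD 0) 1
    set a := A 0 0 with ha
    set b := A 0 1 with hb
    set c := B 0 1 with hc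
    set d := A 1 1 with hd
    have hy : Matrix.fromBlocks A B (-B) A = linMat a b c d := by
      rw [linMat]
      congr 1 <;> ext i j <;> fin_cases i <;> fin_cases j <;> simp [hB00, hB11, hB10, hA10, ha, hb, hc, hd]
    rw [hy] at hyy hne1 hne2 ⊢
    have e1 := congrFun (congrFun hyy (Sum.inl 0)) (Sum.inl 0)
    have e2 := congrFun (congrFun hyy (Sum.inl 0)) (Sum.inl 1)
    have e3 := congrFun (congrFun hyy (Sum.inl 0)) (Sum.inr 1)
    have e4 := congrFun (congrFun hyy (Sum.inl 1)) (Sum.inl 1)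
    simp [linMat, Matrix.mul_apply, Fintype.sum_sum_type, Fin.sum_univ_two] at e1 e2 e3 e4
    have hda : a + d = 0 := by
      by_contra hne
      have hb0 : b = 0 := (mul_eq_zero.mp (show (a + d) * b = 0 by linear_combination e2)).resolve_left hne
      have hc0 : c = 0 := (mul_eq_zero.mp (show (a + d) * c = 0 by linear_combination e3)).resolve_left hne
      rw [hb0, hc0] at e1 e4
      simp at e1 e4
      have hone : ∀ x : F, linMat x 0 0 x = x • (1 : M₄) := fun x => by
        ext (i | i) (j | j) <;> fin_cases i <;> fin_cases j <;> simp [linMat, Matrix.one_apply]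
      rcases (mul_self_eq_one_iff (a := a)).mp (by linear_combination e1) with ea | ea <;>
        rcases (mul_self_eq_one_iff (a := d)).mp (by linear_combination e4) with ed | ed
      · exact hne1 (by rw [hb0, hc0, ea, ed, hone, one_smul])
      · exact hne (by rw [ea, ed, add_neg_cancel])
      · exact hne (by rw [ea, ed, neg_add_cancel])
      · exact hne2 (by rw [hb0, hc0, ea, ed, hone, neg_one_smul])
    have hd' : d = -a := eq_neg_of_add_eq_zero_right hda
    rw [hd']
    rcases hv a with e0 | e0 | e0 <;> rcases hv b with e5 | e5 | e5 <;> rcases hv c with e6 | e6 | e6 <;>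
      rw [e0, e5, e6] at e1 ⊢ <;> simp at e1 ⊢ <;>
      exact absurd (show (1 : F) = 0 by first
        | linear_combination e1 | linear_combination -e1
        | linear_combination h3 - e1 | linear_combination h3 + e1
        | linear_combination e1 - h3 | linear_combination -e1 - h3) one_ne_zero
  · rw [Matrix.J, Matrix.fromBlocks_multiply, Matrix.fromBlocks_multiply, Matrix.fromBlocks_neg,
      Matrix.fromBlocks_inj] at hJ
    simp at hJ
    obtain ⟨hBC, hAD⟩ : B = C ∧ A = -D := ⟨hJ.1, by rw [← hJ.2.1, neg_neg]⟩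
    subst hBC
    obtain rfl : D = -A := by rw [hAD, neg_neg]
    have hA00 : A 0 0 = 0 := hz (by simpa using congrFun (congrFun hD 0) 0)
    have hA11 : A 1 1 = 0 := hz (by simpa using congrFun (congrFun hD 1) 1)
    have hA10 : A 1 0 = - A 0 1 := by simpa using congrFun (congrFun hD 0) 1
    set s := A 0 1 with hs
    set r := B 0 1 with hr
    have hy : Matrix.fromBlocks A B B (-A) = antiMat s r := by
      rw [antiMat]
      congr 1 <;> ext i j <;> fin_cases i <;> fin_cases j <;> simp [hB00, hB11, hB10, hA00, hA11, hA10, hs, hr]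
    rw [hy] at hyy ⊢
    have e1 := congrFun (congrFun hyy (Sum.inl 0)) (Sum.inl 0)
    simp [antiMat, Matrix.mul_apply, Fintype.sum_sum_type, Fin.sum_univ_two] at e1
    rcases hv s with e0 | e0 | e0 <;> rcases hv r with e5 | e5 | e5 <;>
      rw [e0, e5] at e1 ⊢ <;> simp at e1 ⊢ <;>
      exact absurd (show (1 : F) = 0 by first
        | linear_combination e1 | linear_combination -e1
        | linear_combination h3 - e1 | linear_combination h3 + e1
        | linear_combination e1 - h3 | linear_combination -e1 - h3) one_ne_zero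

theorem pauliInv_lin (hq : Fintype.card F = 3) {a b c : F} (h : a * a + b * b + c * c = 1) :
    PauliInv (linMat a b c (-a)) := by
  obtain ⟨h3, -⟩ := val_three hq
  refine ⟨?_, ?_, ?_, ?_, Or.inl ?_⟩
  · ext (i | i) (j | j) <;> fin_cases i <;> fin_cases j <;>
      simp [linMat, Matrix.mul_apply, Fintype.sum_sum_type, Fin.sum_univ_two, Matrix.one_apply] <;>
      first | ring1 | linear_combination h
  · intro e
    have e1 := congrFun (congrFun e (Sum.inl 0)) (Sum.inl 0)
    have e2 := congrFun (congrFun e (Sum.inl 1)) (Sum.inl 1)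
    simp [linMat] at e1 e2
    have h20 : (2 : F) = 0 := by linear_combination -e1 - e2
    exact one_ne_zero (α := F) (by linear_combination h3 - h20)
  · intro e
    have e1 := congrFun (congrFun e (Sum.inl 0)) (Sum.inl 0)
    have e2 := congrFun (congrFun e (Sum.inl 1)) (Sum.inl 1)
    simp [linMat] at e1 e2
    have h20 : (2 : F) = 0 := by linear_combination e1 - e2
    exact one_ne_zero (α := F) (by linear_combination h3 - h20)
  · ext (i | i) (j | j) <;> fin_cases i <;> fin_cases j <;>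
      simp [linMat, Matrix.J, Matrix.fromBlocks_transpose, Matrix.fromBlocks_multiply]
  · ext (i | i) (j | j) <;> fin_cases i <;> fin_cases j <;>
      simp [linMat, Matrix.J, Matrix.fromBlocks_multiply]

theorem pauliInv_anti (hq : Fintype.card F = 3) {s r : F} (h : s * s + r * r = -1) : PauliInv (antiMat s r) := by
  refine ⟨?_, ?_, ?_, ?_, Or.inr ?_⟩
  · ext (i | i) (j | j) <;> fin_cases i <;> fin_cases j <;>
      simp [antiMat, Matrix.mul_apply, Fintype.sum_sum_type, Fin.sum_univ_two, Matrix.one_apply] <;>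
      first | ring1 | linear_combination -h
  · intro e
    have e1 := congrFun (congrFun e (Sum.inl 0)) (Sum.inl 0)
    simp [antiMat] at e1
  · intro e
    have e1 := congrFun (congrFun e (Sum.inl 0)) (Sum.inl 0)
    simp [antiMat] at e1
  · ext (i | i) (j | j) <;> fin_cases i <;> fin_cases j <;>
      simp [antiMat, Matrix.J, Matrix.fromBlocks_transpose, Matrix.fromBlocks_multiply]
  · ext (i | i) (j | j) <;> fin_cases i <;> fin_cases j <;>
      simp [antiMat, Matrix.J, Matrix.fromBlocks_multiply]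

theorem mixMat_pow (hq : Fintype.card F = 3) : mixMat F * mixMat F * (mixMat F * mixMat F) = 1 := by
  obtain ⟨h3, -⟩ := val_three hq
  have hsq : mixMat F * mixMat F = Matrix.fromBlocks !![1, 0; 0, -1] 0 0 !![1, 0; 0, -1] := by
    ext (i | i) (j | j) <;> fin_cases i <;> fin_cases j <;>
      simp [mixMat, Matrix.mul_apply, Fintype.sum_sum_type, Fin.sum_univ_two] <;>
      first | ring1 | linear_combination h3
  rw [hsq]
  ext (i | i) (j | j) <;> fin_cases i <;> fin_cases j <;>
    simp [Matrix.mul_apply, Fintype.sum_sum_type, Fin.sum_univ_two, Matrix.one_apply]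

set_option maxHeartbeats 1000000 in
theorem mixMat_image (hq : Fintype.card F = 3) {y : M₄} (h : PauliInv y) :
    ∃ y', PauliInv y' ∧ mixMat F * y = y' * mixMat F := by
  obtain ⟨h3, -⟩ := val_three hq
  have hl : ∀ a b c : F, a * a + b * b + c * c = 1 → PauliInv (linMat a b c (-a)) := fun a b c => pauliInv_lin hq
  have ha : ∀ s r : F, (s = 1 ∨ s = -1) → (r = 1 ∨ r = -1) → PauliInv (antiMat s r) := fun s r hs hr =>
    pauliInv_anti hq (by rcases hs with rfl | rfl <;> rcases hr with rfl | rfl <;> linear_combination h3)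
  have key : ∀ y y' : M₄, y = y → (∀ i j, (mixMat F * y) i j = (y' * mixMat F) i j) → mixMat F * y = y' * mixMat F :=
    fun y y' _ e => Matrix.ext e
  rcases pauliInv_cases hq h with rfl | rfl | rfl | rfl | rfl | rfl | rfl | rfl | rfl | rfl
  on_goal 1 => refine ⟨linMat 1 0 0 (-1), hl 1 0 0 (by ring), key _ _ rfl fun i j => ?_⟩
  on_goal 2 => refine ⟨linMat (-1) 0 0 1, by simpa using hl (-1) 0 0 (by ring), key _ _ rfl fun i j => ?_⟩
  on_goal 3 => refine ⟨antiMat (-1) (-1), ha _ _ (Or.inr rfl) (Or.inr rfl), key _ _ rfl fun i j => ?_⟩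
  on_goal 4 => refine ⟨antiMat 1 1, ha _ _ (Or.inl rfl) (Or.inl rfl), key _ _ rfl fun i j => ?_⟩
  on_goal 5 => refine ⟨antiMat (-1) 1, ha _ _ (Or.inr rfl) (Or.inl rfl), key _ _ rfl fun i j => ?_⟩
  on_goal 6 => refine ⟨antiMat 1 (-1), ha _ _ (Or.inl rfl) (Or.inr rfl), key _ _ rfl fun i j => ?_⟩
  on_goal 7 => refine ⟨linMat 0 1 0 0, by simpa using hl 0 1 0 (by ring), key _ _ rfl fun i j => ?_⟩
  on_goal 8 => refine ⟨linMat 0 0 1 0, by simpa using hl 0 0 1 (by ring), key _ _ rfl fun i j => ?_⟩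
  on_goal 9 => refine ⟨linMat 0 0 (-1) 0, by simpa using hl 0 0 (-1) (by ring), key _ _ rfl fun i j => ?_⟩
  on_goal 10 => refine ⟨linMat 0 (-1) 0 0, by simpa using hl 0 (-1) 0 (by ring), key _ _ rfl fun i j => ?_⟩
  all_goals
    rcases i with i | i <;> rcases j with j | j <;> fin_cases i <;> fin_cases j <;>
      simp [mixMat, linMat, antiMat, Matrix.mul_apply, Fintype.sum_sum_type, Fin.sum_univ_two] <;>
      first | ring1 | linear_combination h3 | linear_combination -h3

/-- The symmetries of the set of involutions. -/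
def pauliStab (F : Type*) [Field F] : Subgroup (GL (Fin 2 ⊕ Fin 2) F) where
  carrier := {g | ∀ y : Matrix (Fin 2 ⊕ Fin 2) (Fin 2 ⊕ Fin 2) F,
    PauliInv y ↔ PauliInv ((g : Matrix (Fin 2 ⊕ Fin 2) (Fin 2 ⊕ Fin 2) F) * y *
      ((g⁻¹ : GL (Fin 2 ⊕ Fin 2) F) : Matrix (Fin 2 ⊕ Fin 2) (Fin 2 ⊕ Fin 2) F))}
  one_mem' := fun y => by simp
  mul_mem' := fun {a b} ha hb y => by
    rw [hb y, ha, mul_inv_rev, Units.val_mul, Units.val_mul]
    simp only [mul_assoc]
  inv_mem' := fun {a} ha y => by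
    rw [inv_inv]
    conv_rhs => rw [ha]
    constructor <;> intro h <;> simpa [mul_assoc, ← Units.val_mul] using h

theorem semilinear_mem_pauliStab {g : GL ι₄ F} (hg : g ∈ spGL 2 F)
    (hJ : (g : M₄) * J₄ = J₄ * (g : M₄) ∨ (g : M₄) * J₄ = -(J₄ * (g : M₄))) : g ∈ pauliStab F := by
  have key : ∀ g : GL ι₄ F, g ∈ spGL 2 F →
      ((g : M₄) * J₄ = J₄ * (g : M₄) ∨ (g : M₄) * J₄ = -(J₄ * (g : M₄))) → ∀ y, PauliInv y →
      PauliInv ((g : M₄) * y * ((g⁻¹ : GL ι₄ F) : M₄)) := by
    intro g hg hJ y ⟨hyy, h1, h2, hadj, hyJ⟩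
    set gi := ((g⁻¹ : GL ι₄ F) : M₄) with hgi
    have hgig : gi * (g : M₄) = 1 := g.inv_mul
    have hggi : (g : M₄) * gi = 1 := g.mul_inv
    have hback : ∀ z : M₄, gi * ((g : M₄) * z * gi) * (g : M₄) = z := fun z => by
      rw [← mul_assoc, ← mul_assoc, hgig, one_mul, mul_assoc, hgig, mul_one]
    have hgram : (g : M₄)ᵀ * J₄ * (g : M₄) = J₄ := by
      have h := MaxSub.Asch.gram_of_mem_spGL hg
      rwa [show (g : M₄).map (RingHom.id F) = (g : M₄) from Matrix.ext fun _ _ => rfl] at h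
    have hgT : giᵀ * J₄ = J₄ * (g : M₄) := by
      conv_lhs => rw [← hgram]
      rw [← mul_assoc, ← mul_assoc, ← Matrix.transpose_mul, hggi, Matrix.transpose_one, one_mul]
    refine ⟨?_, fun e => h1 ?_, fun e => h2 ?_, ?_, ?_⟩
    · rw [show (g : M₄) * y * gi * ((g : M₄) * y * gi) = (g : M₄) * y * (gi * (g : M₄)) * y * gi by
        simp only [mul_assoc], hgig, mul_one, mul_assoc (g : M₄) y y, hyy, mul_one, hggi]
    · rw [← hback y, e, mul_one, hgig]
    · rw [← hback y, e, mul_neg, neg_mul, mul_one, hgig]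
    · rw [Matrix.transpose_mul, Matrix.transpose_mul,
        show giᵀ * (yᵀ * (g : M₄)ᵀ) * J₄ = giᵀ * yᵀ * ((g : M₄)ᵀ * J₄) by simp only [mul_assoc],
        show (g : M₄)ᵀ * J₄ = J₄ * gi by
          conv_rhs => rw [← hgram]
          rw [mul_assoc, hggi, mul_one],
        show giᵀ * yᵀ * (J₄ * gi) = giᵀ * (yᵀ * J₄) * gi by simp only [mul_assoc], hadj,
        show giᵀ * (J₄ * y) * gi = giᵀ * J₄ * y * gi by simp only [mul_assoc], hgT]
      simp only [mul_assoc]
    · rcases hJ with hJ | hJ <;> rcases hyJ with hyJ | hyJ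
      · left
        have hgiJ : gi * J₄ = J₄ * gi := by
          calc gi * J₄ = gi * (J₄ * (g : M₄)) * gi := by rw [mul_assoc, mul_assoc J₄, hggi, mul_one]
            _ = J₄ * gi := by rw [← hJ, ← mul_assoc gi, hgig, one_mul]
        rw [mul_assoc _ gi, hgiJ, ← mul_assoc, mul_assoc (g : M₄) y, hyJ, ← mul_assoc (g : M₄), hJ]
        simp only [mul_assoc]
      · right
        have hgiJ : gi * J₄ = J₄ * gi := by
          calc gi * J₄ = gi * (J₄ * (g : M₄)) * gi := by rw [mul_assoc, mul_assoc J₄, hggi, mul_one]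
            _ = J₄ * gi := by rw [← hJ, ← mul_assoc gi, hgig, one_mul]
        rw [mul_assoc _ gi, hgiJ, ← mul_assoc, mul_assoc (g : M₄) y, hyJ, mul_neg, ← mul_assoc (g : M₄), hJ]
        simp only [mul_assoc, neg_mul]
      · left
        have hgiJ : gi * J₄ = -(J₄ * gi) := by
          calc gi * J₄ = gi * (J₄ * (g : M₄)) * gi := by rw [mul_assoc, mul_assoc J₄, hggi, mul_one]
            _ = gi * -((g : M₄) * J₄) * gi := by rw [hJ, neg_neg]
            _ = -(J₄ * gi) := by rw [mul_neg, ← mul_assoc gi, hgig, one_mul, neg_mul]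
        rw [mul_assoc _ gi, hgiJ, mul_neg, ← mul_assoc, mul_assoc (g : M₄) y, hyJ, ← mul_assoc (g : M₄), hJ]
        simp only [mul_assoc, neg_mul, neg_neg]
      · right
        have hgiJ : gi * J₄ = -(J₄ * gi) := by
          calc gi * J₄ = gi * (J₄ * (g : M₄)) * gi := by rw [mul_assoc, mul_assoc J₄, hggi, mul_one]
            _ = gi * -((g : M₄) * J₄) * gi := by rw [hJ, neg_neg]
            _ = -(J₄ * gi) := by rw [mul_neg, ← mul_assoc gi, hgig, one_mul, neg_mul]
        rw [mul_assoc _ gi, hgiJ, mul_neg, ← mul_assoc, mul_assoc (g : M₄) y, hyJ, mul_neg, ← mul_assoc (g : M₄), hJ]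
        simp only [mul_assoc, neg_mul, neg_neg]
  have hJi : ((g⁻¹ : GL ι₄ F) : M₄) * J₄ = J₄ * ((g⁻¹ : GL ι₄ F) : M₄) ∨
      ((g⁻¹ : GL ι₄ F) : M₄) * J₄ = -(J₄ * ((g⁻¹ : GL ι₄ F) : M₄)) := by
    set gi := ((g⁻¹ : GL ι₄ F) : M₄)
    rcases hJ with hJ | hJ
    · left
      calc gi * J₄ = gi * (J₄ * (g : M₄)) * gi := by rw [mul_assoc, mul_assoc J₄, g.mul_inv, mul_one]
        _ = J₄ * gi := by rw [← hJ, ← mul_assoc gi, g.inv_mul, one_mul]
    · right
      calc gi * J₄ = gi * (J₄ * (g : M₄)) * gi := by rw [mul_assoc, mul_assoc J₄, g.mul_inv, mul_one]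
        _ = gi * -((g : M₄) * J₄) * gi := by rw [hJ, neg_neg]
        _ = -(J₄ * gi) := by rw [mul_neg, ← mul_assoc gi, g.inv_mul, one_mul, neg_mul]
  intro y
  refine ⟨key g hg hJ y, fun h => ?_⟩
  have := key g⁻¹ (inv_mem hg) hJi _ h
  simpa [mul_assoc, ← Units.val_mul] using this

theorem mem_spGL_of_gram {m : ℕ} {g : GL (Fin m ⊕ Fin m) F}
    (h : (g : Matrix (Fin m ⊕ Fin m) (Fin m ⊕ Fin m) F)ᵀ * Matrix.J (Fin m) F *
      (g : Matrix (Fin m ⊕ Fin m) (Fin m ⊕ Fin m) F) = Matrix.J (Fin m) F) : g ∈ spGL m F := by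
  refine MaxSub.Asch.mem_spGL.mpr ((preserves_iff_gram (σ := RingHom.id F) (f := sympForm m F) (fun _ _ => rfl) _).mpr ?_)
  rwa [show (g : Matrix (Fin m ⊕ Fin m) (Fin m ⊕ Fin m) F).map (RingHom.id F) = (g : Matrix _ _ F) from
    Matrix.ext fun _ _ => rfl]

/-- The normaliser of a field with non-trivial adjoint is not maximal over three elements. -/
theorem unitary_four_three {H : Subgroup (GL ι₄ F)} (hH : Geo.IsMaximalIn (spGL 2 F) H) (hq : Fintype.card F = 3)
    (h : SpUnit H) : False := by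
  classical
  obtain ⟨K, hK, hac, hns, rfl⟩ := h
  obtain ⟨h3, hv⟩ := val_three hq
  have h2 : (2 : F) ≠ 0 := fun e => one_ne_zero (α := F) (by linear_combination h3 - e)
  have hf := MaxSub.isSymplecticForm_sympForm (m := 2) (F := F)
  haveI : Nonempty ι₄ := ⟨Sum.inl 0⟩
  set f := sympForm 2 F with hfdef
  -- a skew element squaring to minus one
  have huniq : ∀ A B : M₄, (∀ u v, f u (A *ᵥ v) = f u (B *ᵥ v)) → A = B := fun A B hAB => by
    refine Matrix.ext_of_mulVec_single fun i => ?_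
    by_contra hne
    obtain ⟨x, hx⟩ := (hf.nondegenerate _ (sub_ne_zero.mpr hne)).1
    exact hx (by rw [MaxSub.form_sub_right hf.bilinear, hAB, sub_self])
  simp only [Geo.IsSelfAdjointFor, not_forall] at hns
  obtain ⟨z, hz, u₀, v₀, hne⟩ := hns
  obtain ⟨z', hz', hzz'⟩ := hac z hz
  have hz'adj : ∀ u v, f (z' *ᵥ u) v = f u (z *ᵥ v) := fun u v => by
    rw [hf.skew, ← hzz', hf.skew, neg_neg]
  set s := z - z' with hs
  have hsK : s ∈ K := sub_mem hz hz'
  have hskew : ∀ u v, f (s *ᵥ u) v = - f u (s *ᵥ v) := fun u v => by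
    rw [hs, Matrix.sub_mulVec, Matrix.sub_mulVec, MaxSub.form_sub_left hf.bilinear, MaxSub.form_sub_right hf.bilinear,
      hzz', hz'adj]
    ring
  have hsc : ∀ c : F, s ≠ c • (1 : M₄) := by
    intro c e
    obtain ⟨a, ha⟩ := (hf.nondegenerate (Pi.single (Sum.inl 0) 1) (by simp)).1
    have h1 := hskew a (Pi.single (Sum.inl 0) 1)
    rw [e, Matrix.smul_mulVec, Matrix.smul_mulVec, Matrix.one_mulVec, Matrix.one_mulVec, hf.bilinear.smul_left,
      hf.bilinear.smul_right] at h1
    have hc : c = 0 := by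
      have h4 : (2 : F) * (c * f a (Pi.single (Sum.inl 0) 1)) = 0 := by linear_combination h1
      exact (mul_eq_zero.mp ((mul_eq_zero.mp h4).resolve_left h2)).resolve_right ha
    apply hne
    rw [hc, zero_smul, hs, sub_eq_zero] at e
    rw [hzz', ← e]
  have hspan : ∀ x ∈ K, ∃ a b : F, x = a • (1 : M₄) + b • s := by
    have hli : LinearIndependent F ![(1 : K), ⟨s, hsK⟩] := by
      rw [LinearIndependent.pair_iff]
      intro a b hab
      have hab' : a • (1 : M₄) + b • s = 0 := congrArg Subtype.val hab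
      by_cases hb : b = 0
      · rw [hb, zero_smul, add_zero, smul_eq_zero] at hab'
        exact ⟨hab'.resolve_right one_ne_zero, hb⟩
      · exact absurd (show s = (-(b⁻¹ * a)) • (1 : M₄) by
          rw [neg_smul, mul_smul, eq_neg_of_add_eq_zero_left hab', smul_neg, neg_neg, smul_smul, inv_mul_cancel₀ hb,
            one_smul]) (hsc _)
    intro x hx
    haveI : Nontrivial K := ⟨⟨1, 0, fun e => one_ne_zero (α := M₄) (congrArg Subtype.val e)⟩⟩
    let bK := basisOfLinearIndependentOfCardEqFinrank hli (by rw [hK.finrank_eq]; rfl)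
    refine ⟨bK.equivFun ⟨x, hx⟩ 0, bK.equivFun ⟨x, hx⟩ 1, ?_⟩
    have h1 := congrArg Subtype.val (bK.sum_equivFun ⟨x, hx⟩)
    simp [Fin.sum_univ_two, bK] at h1
    simpa [bK] using h1.symm
  have hfixed : ∀ x ∈ K, (∀ u v, f (x *ᵥ u) v = f u (x *ᵥ v)) → ∃ c : F, x = c • (1 : M₄) := by
    intro x hx hself
    obtain ⟨a, b, rfl⟩ := hspan x hx
    refine ⟨a, ?_⟩
    by_cases hb : b = 0
    · rw [hb, zero_smul, add_zero]
    exfalso
    refine hsc 0 (huniq _ _ fun u v => ?_)
    have h1 := hself u v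
    simp only [Matrix.add_mulVec, Matrix.smul_mulVec, Matrix.one_mulVec, hf.bilinear.add_left, hf.bilinear.add_right,
      hf.bilinear.smul_left, hf.bilinear.smul_right, hskew] at h1
    rw [Matrix.smul_mulVec, zero_smul, MaxSub.form_zero_right hf.bilinear]
    have h4 : (2 : F) * (b * f u (s *ᵥ v)) = 0 := by linear_combination -h1
    exact (mul_eq_zero.mp ((mul_eq_zero.mp h4).resolve_left h2)).resolve_left hb
  have hss : s * s = -1 := by
    obtain ⟨c, hc⟩ := hfixed (s * s) (mul_mem hsK hsK) fun u v => by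
      rw [← Matrix.mulVec_mulVec, ← Matrix.mulVec_mulVec, hskew, hskew, neg_neg]
    rcases hv c with rfl | rfl | rfl
    · exfalso
      rw [zero_smul] at hc
      obtain ⟨t, -, ht⟩ := hK.inv s hsK (fun e => hsc 0 (by rw [e, zero_smul]))
      refine hsc 0 ?_
      rw [zero_smul]
      calc s = s * (s * t) := by rw [ht, mul_one]
        _ = 0 := by rw [← mul_assoc, hc, zero_mul]
    · exfalso
      rw [one_smul] at hc
      by_cases h1 : s - 1 = 0
      · exact hsc 1 (by rw [one_smul]; exact sub_eq_zero.mp h1)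
      obtain ⟨t, htK, ht⟩ := hK.inv _ (sub_mem hsK (one_mem K)) h1
      refine hsc (-1) ?_
      have h4 : (s - 1) * (s + 1) = 0 := by rw [sub_mul, mul_add, one_mul, hc, mul_one]; abel
      have h5 : s + 1 = 0 := by
        calc s + 1 = (s - 1) * t * (s + 1) := by rw [ht, one_mul]
          _ = t * ((s - 1) * (s + 1)) := by rw [hK.comm _ (sub_mem hsK (one_mem K)) t htK, mul_assoc]
          _ = 0 := by rw [h4, mul_zero]
      rw [neg_one_smul]
      exact eq_neg_of_add_eq_zero_left h5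
    · rw [hc, neg_one_smul]
  -- an orthonormal pair for the associated hermitian form
  set S : (ι₄ → F) → (ι₄ → F) → F := fun u v => f (s *ᵥ u) v with hS
  have hsymm : ∀ u v, S u v = S v u := fun u v => by
    simp only [hS]; rw [hskew, hf.skew, neg_neg]
  have hnorm : ∀ W : Submodule F (ι₄ → F), (∀ x ∈ W, s *ᵥ x ∈ W) → (∃ x ∈ W, ∃ y ∈ W, f x y ≠ 0) →
      ∃ x ∈ W, S x x = 1 := by
    intro W hWi ⟨x, hx, y, hy, hxy⟩
    obtain ⟨w, hw, hw0⟩ : ∃ w ∈ W, S w w ≠ 0 := by
      by_contra hcon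
      push Not at hcon
      set x' := s *ᵥ x with hx'
      have h1 : S x' y = - f x y := by
        simp only [hS, hx']
        rw [Matrix.mulVec_mulVec, hss, Matrix.neg_mulVec, Matrix.one_mulVec]
        exact map_neg (MaxSub.lmap hf.bilinear y) x
      have hx'W := hWi x hx
      have h4 := hcon _ (add_mem hx'W hy)
      simp only [hS, Matrix.mulVec_add, hf.bilinear.add_left, hf.bilinear.add_right] at h4
      have k1 := hcon _ hx'W
      have k2 := hcon _ hy
      have k3 := hsymm y x'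
      simp only [hS] at k1 k2 k3 h1
      exact hxy ((mul_eq_zero.mp (show (2 : F) * f x y = 0 by linear_combination 2 * h1 - h4 + k1 + k2 + k3)).resolve_left h2)
    rcases hv (S w w) with e | e | e
    · exact absurd e hw0
    · exact ⟨w, hw, e⟩
    · refine ⟨w + s *ᵥ w, add_mem hw (hWi w hw), ?_⟩
      have k1 : S (s *ᵥ w) w = 0 := by
        simp only [hS]
        rw [Matrix.mulVec_mulVec, hss, Matrix.neg_mulVec, Matrix.one_mulVec,
          show f (-w) w = -f w w from map_neg (MaxSub.lmap hf.bilinear w) w, hf.alternating, neg_zero]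
      have k2 : S (s *ᵥ w) (s *ᵥ w) = S w w := by
        simp only [hS]
        rw [Matrix.mulVec_mulVec, hss, Matrix.neg_mulVec, Matrix.one_mulVec,
          show f (-w) (s *ᵥ w) = -f w (s *ᵥ w) from map_neg (MaxSub.lmap hf.bilinear (s *ᵥ w)) w, ← hskew]
      have k3 : S (w + s *ᵥ w) (w + s *ᵥ w) = S w w + S w (s *ᵥ w) + (S (s *ᵥ w) w + S (s *ᵥ w) (s *ᵥ w)) := by
        simp only [hS, Matrix.mulVec_add, hf.bilinear.add_left, hf.bilinear.add_right]
        ring
      rw [k3, hsymm w (s *ᵥ w), k1, k2, e]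
      linear_combination -h3
  obtain ⟨e1, -, he1⟩ := hnorm ⊤ (fun _ _ => trivial) (by
    obtain ⟨x, hx⟩ := (hf.nondegenerate (Pi.single (Sum.inl 0) 1) (by simp)).1
    exact ⟨x, trivial, _, trivial, hx⟩)
  have hfe : ∀ e, S e e = 1 → f e (s *ᵥ e) = -1 := fun e he => by
    rw [hf.skew]; simp only [hS] at he; rw [he]
  let W : Submodule F (ι₄ → F) := LinearMap.ker (MaxSub.lmap hf.bilinear e1) ⊓
    LinearMap.ker (MaxSub.lmap hf.bilinear (s *ᵥ e1))
  have hWmem : ∀ x, x ∈ W ↔ f x e1 = 0 ∧ f x (s *ᵥ e1) = 0 := fun x => by simp [W, hfdef]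
  obtain ⟨e2, he2W, he2⟩ := hnorm W (fun x hx => by
    rw [hWmem] at hx ⊢
    refine ⟨by rw [hskew, hx.2, neg_zero], ?_⟩
    rw [hskew, Matrix.mulVec_mulVec, hss, Matrix.neg_mulVec, Matrix.one_mulVec, MaxSub.form_neg_right hf.bilinear,
      hx.1, neg_zero, neg_zero]) (by
    obtain ⟨x, hx0, hx1, hx2⟩ := exists_mulVec_kills (ι := ι₄) (by simp) (MaxSub.rep f e1) (MaxSub.rep f (s *ᵥ e1))
    rw [MaxSub.rep_dot hf.bilinear] at hx1 hx2
    obtain ⟨y, hy⟩ := (hf.nondegenerate x hx0).2
    refine ⟨x, (hWmem x).mpr ⟨hx1, hx2⟩, y + f y (s *ᵥ e1) • e1 - f y e1 • (s *ᵥ e1), (hWmem _).mpr ⟨?_, ?_⟩, ?_⟩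
    · have he : f (s *ᵥ e1) e1 = 1 := he1
      rw [MaxSub.form_sub_left hf.bilinear, hf.bilinear.add_left, hf.bilinear.smul_left, hf.bilinear.smul_left,
        hf.alternating, he]
      ring
    · rw [MaxSub.form_sub_left hf.bilinear, hf.bilinear.add_left, hf.bilinear.smul_left, hf.bilinear.smul_left,
        hf.alternating, hfe e1 he1]
      ring
    · rw [MaxSub.form_sub_right hf.bilinear, hf.bilinear.add_right, hf.bilinear.smul_right, hf.bilinear.smul_right,
        hx1, hx2]
      simpa using hy)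
  rw [hWmem] at he2W
  -- the change of basis
  let col : ι₄ → (ι₄ → F) := Sum.elim ![e1, e2] ![s *ᵥ e1, s *ᵥ e2]
  let T₀ : M₄ := Matrix.of fun i j => col j i
  have hcol : ∀ j, T₀ *ᵥ Pi.single j 1 = col j := fun j => by
    rw [Matrix.mulVec_single_one]; rfl
  have hTgram : T₀ᵀ * J₄ * T₀ = J₄ := by
    ext i j
    have h1 : (T₀ᵀ * J₄ * T₀) i j = f (col i) (col j) := by
      rw [← hcol i, ← hcol j, hfdef]
      show _ = (T₀ *ᵥ Pi.single i 1) ⬝ᵥ (J₄ *ᵥ (T₀ *ᵥ Pi.single j 1))
      rw [Matrix.mulVec_mulVec, Matrix.mulVec_single_one, Matrix.mulVec_single_one, mul_assoc, Matrix.mul_apply]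
      rfl
    rw [h1]
    have a1 : f e1 e2 = 0 := by rw [hf.skew, he2W.1, neg_zero]
    have a2 : f (s *ᵥ e1) e2 = 0 := by rw [hf.skew, he2W.2, neg_zero]
    have a3 : f e1 (s *ᵥ e2) = 0 := by rw [← neg_eq_zero, ← hskew, a2]
    have a4 : f (s *ᵥ e1) (s *ᵥ e2) = 0 := by
      rw [hskew, Matrix.mulVec_mulVec, hss, Matrix.neg_mulVec, Matrix.one_mulVec, MaxSub.form_neg_right hf.bilinear,
        a1, neg_zero, neg_zero]
    have b1 : f (s *ᵥ e1) e1 = 1 := he1
    have b2 : f (s *ᵥ e2) e2 = 1 := he2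
    have c1 : f (s *ᵥ e2) e1 = 0 := by rw [hf.skew, a3, neg_zero]
    have c2 : f (s *ᵥ e2) (s *ᵥ e1) = 0 := by rw [hf.skew, a4, neg_zero]
    rcases i with i | i <;> rcases j with j | j <;> fin_cases i <;> fin_cases j <;>
      simp [col, Matrix.J, hf.alternating, a1, a2, a3, a4, b1, b2, c1, c2, he2W.1, he2W.2, hfe e1 he1, hfe e2 he2]
  have hTdet : T₀.det ≠ 0 := by
    intro h0
    have h1 := congrArg Matrix.det hTgram
    rw [Matrix.det_mul, h0, mul_zero] at h1
    exact ((Matrix.isUnit_iff_isUnit_det _).mp ((MaxSub.Asch.spData 2 F).gram).isUnit).ne_zero h1.symm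
  set T := Matrix.GeneralLinearGroup.mkOfDetNeZero T₀ hTdet with hT
  have hTI : T ∈ spGL 2 F := mem_spGL_of_gram hTgram
  have hsT : s * (T : M₄) = (T : M₄) * J₄ := by
    refine Matrix.ext_of_mulVec_single fun j => ?_
    show (s * T₀) *ᵥ _ = (T₀ * J₄) *ᵥ _
    rw [← Matrix.mulVec_mulVec, ← Matrix.mulVec_mulVec, hcol]
    rcases j with j | j
    · rw [show J₄ *ᵥ Pi.single (Sum.inl j) (1 : F) = Pi.single (Sum.inr j) 1 by
        ext (i | i) <;> simp [Matrix.J, Matrix.one_apply, Pi.single_apply], hcol]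
      fin_cases j <;> rfl
    · rw [show J₄ *ᵥ Pi.single (Sum.inr j) (1 : F) = -Pi.single (Sum.inl j) 1 by
        ext (i | i) <;> simp [Matrix.J, Matrix.one_apply, Pi.single_apply], Matrix.mulVec_neg, hcol]
      fin_cases j <;> simp [col, Matrix.mulVec_mulVec, hss, Matrix.neg_mulVec]
  have hsemi : ∀ g ∈ Geo.subalgebraNormalizer K ⊓ spGL 2 F,
      ((T⁻¹ * g * T : GL ι₄ F) : M₄) * J₄ = J₄ * ((T⁻¹ * g * T : GL ι₄ F) : M₄) ∨
      ((T⁻¹ * g * T : GL ι₄ F) : M₄) * J₄ = -(J₄ * ((T⁻¹ * g * T : GL ι₄ F) : M₄)) := by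
    intro g hg
    obtain ⟨a, b, hab⟩ := hspan _ ((hg.1 s).mp hsK)
    set gi := ((g⁻¹ : GL ι₄ F) : M₄) with hgi
    have hgs : (g : M₄) * s = (a • (1 : M₄) + b • s) * (g : M₄) := by
      rw [← hab, mul_assoc, g.inv_mul, mul_one]
    have hk : ∀ u v, f ((a • (1 : M₄) + b • s) *ᵥ u) v = - f u ((a • (1 : M₄) + b • s) *ᵥ v) := by
      intro u v
      obtain ⟨u', rfl⟩ : ∃ u', (g : M₄) *ᵥ u' = u := ⟨gi *ᵥ u, MaxSub.mulVec_inv_mulVec g u⟩
      obtain ⟨v', rfl⟩ : ∃ v', (g : M₄) *ᵥ v' = v := ⟨gi *ᵥ v, MaxSub.mulVec_inv_mulVec g v⟩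
      rw [Matrix.mulVec_mulVec u', Matrix.mulVec_mulVec v', ← hgs, ← Matrix.mulVec_mulVec, ← Matrix.mulVec_mulVec,
        hfdef, MaxSub.Asch.mem_spGL.mp hg.2, MaxSub.Asch.mem_spGL.mp hg.2, ← hfdef, hskew]
    have ha : a = 0 := by
      obtain ⟨x, hx⟩ := (hf.nondegenerate (Pi.single (Sum.inl 0) 1) (by simp)).1
      have h1 := hk x (Pi.single (Sum.inl 0) 1)
      simp only [Matrix.add_mulVec, Matrix.smul_mulVec, Matrix.one_mulVec, hf.bilinear.add_left,
        hf.bilinear.add_right, hf.bilinear.smul_left, hf.bilinear.smul_right, hskew] at h1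
      have h4 : (2 : F) * (a * f x (Pi.single (Sum.inl 0) 1)) = 0 := by linear_combination h1
      exact (mul_eq_zero.mp ((mul_eq_zero.mp h4).resolve_left h2)).resolve_right hx
    rw [ha, zero_smul, zero_add] at hgs
    have hb : b ≠ 0 := by
      rintro rfl
      rw [zero_smul, zero_mul] at hgs
      refine hsc 0 ?_
      rw [zero_smul]
      calc s = gi * ((g : M₄) * s) := by rw [← mul_assoc, g.inv_mul, one_mul]
        _ = 0 := by rw [hgs, mul_zero]
    set Ti := ((T⁻¹ : GL ι₄ F) : M₄) with hTi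
    have hTs : Ti * s = J₄ * Ti := by
      calc Ti * s = Ti * (s * (T : M₄)) * Ti := by rw [mul_assoc, mul_assoc s, T.mul_inv, mul_one]
        _ = J₄ * Ti := by rw [hsT, ← mul_assoc, T.inv_mul, one_mul]
    have h1 : ((T⁻¹ * g * T : GL ι₄ F) : M₄) * J₄ = b • (J₄ * ((T⁻¹ * g * T : GL ι₄ F) : M₄)) := by
      simp only [Units.val_mul, ← hTi]
      rw [mul_assoc _ (T : M₄), ← hsT, ← mul_assoc, mul_assoc Ti, hgs, Matrix.smul_mul, Matrix.mul_smul,
        Matrix.smul_mul, ← mul_assoc Ti s, hTs]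
      simp only [mul_assoc]
    rcases hv b with rfl | rfl | rfl
    · exact absurd rfl hb
    · exact Or.inl (by rw [h1, one_smul])
    · exact Or.inr (by rw [h1, neg_one_smul])
  let X : Subgroup (GL ι₄ F) := (pauliStab F).map (MulAut.conj T).toMonoidHom
  have hmemX : ∀ g, T⁻¹ * g * T ∈ pauliStab F → g ∈ X := fun g hg => ⟨_, hg, by
    simp [MulAut.conj_apply, mul_assoc]⟩
  -- the stabiliser is proper
  have hnot : ¬ spGL 2 F ≤ X := by
    intro hle
    have hdt : (Matrix.fromBlocks 1 !![0, 0; 0, 1] 0 1 : M₄).det ≠ 0 := by simp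
    set t := Matrix.GeneralLinearGroup.mkOfDetNeZero _ hdt with ht
    have htI : t ∈ spGL 2 F := by
      refine mem_spGL_of_gram ?_
      ext (i | i) (j | j) <;> fin_cases i <;> fin_cases j <;>
        simp [ht, Matrix.J, Matrix.fromBlocks_transpose, Matrix.fromBlocks_multiply]
    obtain ⟨u, hu, huT⟩ := hle (mul_mem (mul_mem hTI htI) (inv_mem hTI))
    have hut : u = t := (MulAut.conj T).injective (huT.trans (by simp [MulAut.conj_apply]))
    subst hut
    have hy := (hu (linMat 0 1 0 0)).mp (by simpa using pauliInv_lin hq (a := (0 : F)) (b := 1) (c := 0) (by ring))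
    have hti : ((t⁻¹ : GL ι₄ F) : M₄) = Matrix.fromBlocks 1 !![0, 0; 0, -1] 0 1 := by
      refine Units.inv_eq_of_mul_eq_one_right ?_
      ext (i | i) (j | j) <;> fin_cases i <;> fin_cases j <;>
        simp [ht, Matrix.fromBlocks_multiply, Matrix.one_apply]
    rw [hti] at hy
    obtain ⟨-, -, -, -, hc | hc⟩ := hy
    · have e0 := congrFun (congrFun hc (Sum.inl 0)) (Sum.inl 0)
      have e1 := congrFun (congrFun hc (Sum.inl 0)) (Sum.inl 1)
      have e2 := congrFun (congrFun hc (Sum.inl 1)) (Sum.inl 0)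
      simp [ht, linMat, Matrix.J, Matrix.fromBlocks_multiply] at e0 e1 e2
    · have e0 := congrFun (congrFun hc (Sum.inl 0)) (Sum.inr 0)
      have e1 := congrFun (congrFun hc (Sum.inl 0)) (Sum.inr 1)
      have e2 := congrFun (congrFun hc (Sum.inl 1)) (Sum.inr 0)
      simp [ht, linMat, Matrix.J, Matrix.fromBlocks_multiply] at e0 e1 e2
      first
        | exact h2 (by linear_combination e1) | exact h2 (by linear_combination -e1)
        | exact h2 (by linear_combination e2) | exact h2 (by linear_combination -e2)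
  have hle : Geo.subalgebraNormalizer K ⊓ spGL 2 F ≤ X := fun g hg =>
    hmemX g (semilinear_mem_pauliStab (mul_mem (mul_mem (inv_mem hTI) hg.2) hTI) (hsemi g hg))
  have hHX := eq_inf_of_maximal hH hle hnot
  -- the extra symmetry
  have hmixdet : (mixMat F).det ≠ 0 := by
    intro h0
    have h1 := congrArg Matrix.det (mixMat_pow hq)
    simp [Matrix.det_mul, h0] at h1
  set x := Matrix.GeneralLinearGroup.mkOfDetNeZero _ hmixdet with hx
  have hxI : x ∈ spGL 2 F := by
    refine mem_spGL_of_gram ?_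
    ext (i | i) (j | j) <;> fin_cases i <;> fin_cases j <;>
      simp [hx, mixMat, Matrix.J, Matrix.fromBlocks_transpose, Matrix.fromBlocks_multiply, Matrix.mul_apply,
        Matrix.one_apply, Fin.sum_univ_two] <;>
      first | ring1 | linear_combination h3 | linear_combination -h3
  have hxS : x ∈ pauliStab F := by
    have hfwd : ∀ y, PauliInv y → PauliInv ((x : M₄) * y * ((x⁻¹ : GL ι₄ F) : M₄)) := by
      intro y hy
      obtain ⟨y', hy', he⟩ := mixMat_image hq hy
      rwa [show (x : M₄) * y = y' * (x : M₄) from he, mul_assoc, x.mul_inv, mul_one]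
    have hx4 : x * x * (x * x) = 1 := Units.ext (mixMat_pow hq)
    intro y
    refine ⟨hfwd y, fun h => ?_⟩
    have h5 := hfwd _ (hfwd _ (hfwd _ h))
    have hz4 : ((x * x * (x * x) : GL ι₄ F) : M₄) * y * (((x * x * (x * x))⁻¹ : GL ι₄ F) : M₄) = y := by
      rw [hx4]; simp
    simpa [mul_assoc] using hz4 ▸ (by simpa [mul_assoc] using h5 :
      PauliInv (((x * x * (x * x) : GL ι₄ F) : M₄) * y * (((x * x * (x * x))⁻¹ : GL ι₄ F) : M₄)))
  have hmem : T * x * T⁻¹ ∈ Geo.subalgebraNormalizer K ⊓ spGL 2 F := by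
    rw [hHX]
    refine Subgroup.mem_inf.mpr ⟨hmemX _ (by simpa [mul_assoc] using hxS), ?_⟩
    exact mul_mem (mul_mem hTI hxI) (inv_mem hTI)
  have h6 := hsemi _ hmem
  rw [show T⁻¹ * (T * x * T⁻¹) * T = x by group] at h6
  rcases h6 with h6 | h6
  · have e0 := congrFun (congrFun h6 (Sum.inl 1)) (Sum.inl 1)
    have e1 := congrFun (congrFun h6 (Sum.inl 1)) (Sum.inr 1)
    simp [hx, mixMat, Matrix.J, Matrix.fromBlocks_multiply] at e0 e1
    first
      | exact h2 (by linear_combination e0) | exact h2 (by linear_combination -e0)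
      | exact h2 (by linear_combination e1) | exact h2 (by linear_combination -e1)
  · have e0 := congrFun (congrFun h6 (Sum.inl 0)) (Sum.inr 0)
    have e1 := congrFun (congrFun h6 (Sum.inl 1)) (Sum.inl 1)
    simp [hx, mixMat, Matrix.J, Matrix.fromBlocks_multiply] at e0 e1
    first
      | exact h2 (by linear_combination e0) | exact h2 (by linear_combination -e0)
      | exact h2 (by linear_combination e1) | exact h2 (by linear_combination -e1)

end Cfsg.Agent.Aschbacher
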