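import Cfsg.Agent.Aschbacher.Symp.Cases

/-!
Over three elements the stabiliser of a pair of totally singular planes in the four-dimensional symplectic group
fixes a self-adjoint involution up to sign, so it is the stabiliser of an orthogonal decomposition.
-/

set_option autoImplicit false
set_option linter.unusedSectionVars false
set_option linter.style.haveILetI false
set_option linter.unusedSimpArgs false

namespace Cfsg.Agent.Aschbacher

open scoped MatrixGroups Matrix
open Module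

variable {F : Type*} [Field F] [Fintype F]

local notation "ι₄" => Fin 2 ⊕ Fin 2
local notation "M₄" => Matrix (Fin 2 ⊕ Fin 2) (Fin 2 ⊕ Fin 2) F
local notation "J₄" => Matrix.J (Fin 2) F

/-- The eigenspaces of a self-adjoint involution form an orthogonal decomposition. -/
theorem dec_of_involution {H : Subgroup (GL ι₄ F)} (hH : Geo.IsMaximalIn (spGL 2 F) H) (h2 : (2 : F) ≠ 0) {s : M₄}
    (hss : s * s = 1) (h1 : s ≠ 1) (h1' : s ≠ -1) (hadj : sᵀ * J₄ = J₄ * s)
    (hperm : ∀ g ∈ H, (g : M₄) * s = s * (g : M₄) ∨ (g : M₄) * s = -(s * (g : M₄))) : SpDec 2 2 H := by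
  classical
  have hf := MaxSub.isSymplecticForm_sympForm (m := 2) (F := F)
  set f := sympForm 2 F with hfdef
  have hadjv : ∀ u v, f (s *ᵥ u) v = f u (s *ᵥ v) := fun u v => by
    show (s *ᵥ u) ⬝ᵥ (J₄ *ᵥ v) = u ⬝ᵥ (J₄ *ᵥ (s *ᵥ v))
    rw [Matrix.mulVec_mulVec, ← hadj, ← Matrix.mulVec_mulVec, Matrix.dotProduct_mulVec u sᵀ, Matrix.vecMul_transpose]
  let ε : Fin 2 → F := ![1, -1]
  have hne : ∀ i j, i ≠ j → ε i - ε j ≠ 0 := by
    intro i j hij
    fin_cases i <;> fin_cases j <;> first | exact absurd rfl hij | skip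
    · intro e; apply h2; simp [ε] at e; linear_combination e
    · intro e; apply h2; simp [ε] at e; linear_combination -e
  let E : Fin 2 → Submodule F (ι₄ → F) := fun i => LinearMap.ker (Matrix.toLin' s - ε i • LinearMap.id)
  have hmem : ∀ i x, x ∈ E i ↔ s *ᵥ x = ε i • x := fun i x => by
    simp [E, LinearMap.mem_ker, sub_eq_zero]
  have horth : ∀ i j, i ≠ j → Geo.AreOrthogonalFor f (E i) (E j) := by
    intro i j hij u hu v hv
    rw [hmem] at hu hv
    have h := hadjv u v
    rw [hu, hv, hf.bilinear.smul_left, hf.bilinear.smul_right] at h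
    exact (mul_eq_zero.mp (show (ε i - ε j) * f u v = 0 by linear_combination h)).resolve_left (hne i j hij)
  have hsx : ∀ x, s *ᵥ (s *ᵥ x) = x := fun x => by rw [Matrix.mulVec_mulVec, hss, Matrix.one_mulVec]
  have hin : ∀ x i, x + ε i • (s *ᵥ x) ∈ E i := fun x i => by
    rw [hmem, Matrix.mulVec_add, Matrix.mulVec_smul, hsx, smul_add, smul_smul,
      show ε i * ε i = 1 by fin_cases i <;> simp [ε], one_smul, add_comm]
  have hsplit : ∀ x, ∃ a ∈ E 0, ∃ c ∈ E 1, a + c = x := fun x =>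
    ⟨(2 : F)⁻¹ • (x + ε 0 • (s *ᵥ x)), Submodule.smul_mem _ _ (hin x 0),
      (2 : F)⁻¹ • (x + ε 1 • (s *ᵥ x)), Submodule.smul_mem _ _ (hin x 1), by
        rw [← smul_add, show x + ε 0 • (s *ᵥ x) + (x + ε 1 • (s *ᵥ x)) = (2 : F) • x by
          simp [ε, two_smul]; abel, inv_smul_smul₀ h2]⟩
  have hnd : ∀ i, Geo.IsNondegenerateOn f (E i) := by
    intro i x hx hx0
    obtain ⟨y, hy⟩ := (hf.nondegenerate x hx0).2
    obtain ⟨a, ha, c, hc, rfl⟩ := hsplit y
    rw [hf.bilinear.add_right] at hy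
    obtain ⟨z, hz, hz0⟩ : ∃ z ∈ E i, f x z ≠ 0 := by
      fin_cases i
      · exact ⟨a, ha, by rwa [horth 0 1 (by decide) x hx c hc, add_zero] at hy⟩
      · exact ⟨c, hc, by rwa [horth 1 0 (by decide) x hx a ha, zero_add] at hy⟩
    exact ⟨⟨z, hz, by rw [hf.skew, neg_ne_zero]; exact hz0⟩, ⟨z, hz, hz0⟩⟩
  have hE01 : E 0 ⊓ E 1 = ⊥ := by
    refine (Submodule.eq_bot_iff _).mpr fun x hx => ?_
    have e : ε 0 • x = ε 1 • x := ((hmem 0 x).mp hx.1).symm.trans ((hmem 1 x).mp hx.2)
    rw [← sub_eq_zero, ← sub_smul, smul_eq_zero] at e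
    exact e.resolve_left (hne 0 1 (by decide))
  have hnb : ∀ i, E i ≠ ⊥ := by
    intro i e
    have hz : ∀ x, x + ε i • (s *ᵥ x) = 0 := fun x => (Submodule.eq_bot_iff _).mp e _ (hin x i)
    fin_cases i
    · refine h1' (Matrix.ext_of_mulVec_single fun j => ?_)
      have := hz (Pi.single j 1)
      simp only [ε, Fin.zero_eta, Fin.isValue, Matrix.cons_val_zero, one_smul] at this
      rw [Matrix.neg_mulVec, Matrix.one_mulVec]
      exact eq_neg_of_add_eq_zero_right this
    · refine h1 (Matrix.ext_of_mulVec_single fun j => ?_)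
      have := hz (Pi.single j 1)
      simp only [ε, Fin.mk_one, Fin.isValue, Matrix.cons_val_one, Matrix.cons_val_fin_one, neg_smul, one_smul] at this
      rw [Matrix.one_mulVec]
      exact (add_neg_eq_zero.mp this).symm
  have hsup : E 0 ⊔ E 1 = ⊤ := Submodule.eq_top_iff'.mpr fun x => by
    obtain ⟨a, ha, c, hc, h⟩ := hsplit x
    exact Submodule.mem_sup.mpr ⟨a, ha, c, hc, h⟩
  have hrank : ∀ i, finrank F (E i) = 2 := by
    have h := Submodule.finrank_sup_add_finrank_inf_eq (E 0) (E 1)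
    rw [hsup, hE01, finrank_bot, finrank_top, Module.finrank_pi, Fintype.card_sum, Fintype.card_fin] at h
    have h0 := even_finrank_of_nondegenerateOn hf (hnd 0)
    have h0' := even_finrank_of_nondegenerateOn hf (hnd 1)
    have p0 : finrank F (E 0) ≠ 0 := fun e => hnb 0 (Submodule.finrank_eq_zero.mp e)
    have p1 : finrank F (E 1) ≠ 0 := fun e => hnb 1 (Submodule.finrank_eq_zero.mp e)
    intro i
    fin_cases i <;> dsimp <;> omega
  have hE : Geo.IsMDecomposition 2 E := by
    have h := MaxSub.Asch.isMDecomposition_pair (W := E 0) (U := E 1) two_pos (hrank 0) (hrank 1) hE01 hsup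
    convert h using 1
    funext i
    fin_cases i <;> rfl
  refine ⟨E, ⟨hE, hnd, horth⟩, eq_inf_of_maximal hH ?_ (sp_not_le_decompositionStabilizer hE)⟩
  intro g hg
  have hinj : Function.Injective (Matrix.toLin' (g : M₄)) := fun x y e =>
    MaxSub.mulVec_injective g (by simpa using e)
  have hmap : ∀ π : Equiv.Perm (Fin 2), (∀ i x, x ∈ E i → (g : M₄) *ᵥ x ∈ E (π i)) →
      g ∈ Geo.decompositionStabilizer E := by
    intro π hπ
    refine ⟨π, fun i => Submodule.eq_of_le_of_finrank_eq (Submodule.map_le_iff_le_comap.mpr fun x hx => ?_) ?_⟩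
    · rw [Submodule.mem_comap, Matrix.toLin'_apply]
      exact hπ i x hx
    · rw [← (Submodule.equivMapOfInjective _ hinj (E i)).finrank_eq, hrank, hrank]
  rcases hperm g hg with hc | hc
  · refine hmap 1 fun i x hx => ?_
    rw [hmem] at hx ⊢
    rw [Matrix.mulVec_mulVec, ← hc, ← Matrix.mulVec_mulVec, hx, Matrix.mulVec_smul]
    rfl
  · refine hmap (Equiv.swap 0 1) fun i x hx => ?_
    rw [hmem] at hx ⊢
    rw [Matrix.mulVec_mulVec, show s * (g : M₄) = -((g : M₄) * s) by rw [hc, neg_neg], Matrix.neg_mulVec,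
      ← Matrix.mulVec_mulVec, hx, Matrix.mulVec_smul, ← neg_smul]
    congr 1
    fin_cases i <;> simp [ε]

/-- The standard symplectic form of the plane is multiplied by the determinant. -/
theorem transpose_mul_two (A : Matrix (Fin 2) (Fin 2) F) :
    Aᵀ * !![0, -1; 1, 0] * A = A.det • !![0, -1; 1, 0] := by
  ext i j
  fin_cases i <;> fin_cases j <;> simp [Matrix.mul_apply, Matrix.det_fin_two, Fin.sum_univ_two] <;> ring

/-- Over three elements a pair of totally singular planes gives an orthogonal decomposition. -/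
theorem pair_four_three {H : Subgroup (GL ι₄ F)} (hH : Geo.IsMaximalIn (spGL 2 F) H) (hq : Fintype.card F = 3)
    (h : SpPair H) : SpDec 2 2 H := by
  classical
  obtain ⟨D, hD, hts, rfl⟩ := h
  have h3 : (3 : F) = 0 := by
    have := Nat.cast_card_eq_zero F
    rw [hq] at this
    exact_mod_cast this
  have h2 : (2 : F) ≠ 0 := fun e => one_ne_zero (α := F) (by linear_combination h3 - e)
  have hv : ∀ x : F, x ≠ 0 → x = 1 ∨ x = -1 := fun x h => by
    have h1 := FiniteField.pow_card_sub_one_eq_one x h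
    rw [hq] at h1
    exact sq_eq_one_iff.mp h1
  have hf := MaxSub.isSymplecticForm_sympForm (m := 2) (F := F)
  set f := sympForm 2 F with hfdef
  have hsup : D 0 ⊔ D 1 = ⊤ := top_le_iff.mp (hD.iSup_eq_top ▸ iSup_le fun i => by
    fin_cases i
    · exact le_sup_left
    · exact le_sup_right)
  let b := Module.finBasisOfFinrankEq F (D 0) (hD.finrank_eq 0)
  let L : D 1 →ₗ[F] (Fin 2 → F) := (LinearMap.pi fun i => MaxSub.rmap hf.bilinear (b i : ι₄ → F)).comp (D 1).subtype
  have hLinj : Function.Injective L := by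
    rw [injective_iff_map_eq_zero]
    intro w hw
    by_contra h0
    obtain ⟨x, hx⟩ := (hf.nondegenerate (w : ι₄ → F) (fun e => h0 (Subtype.ext e))).1
    obtain ⟨a, ha, c, hc, rfl⟩ := Submodule.mem_sup.mp (show x ∈ D 0 ⊔ D 1 from hsup ▸ trivial)
    rw [hf.bilinear.add_left, hts 1 c hc w w.2, add_zero] at hx
    refine hx ?_
    rw [show a = ((⟨a, ha⟩ : D 0) : ι₄ → F) from rfl, ← b.sum_repr ⟨a, ha⟩, Submodule.coe_sum,
      ← MaxSub.lmap_apply hf.bilinear, map_sum]
    refine Finset.sum_eq_zero fun i _ => ?_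
    have := congrFun hw i
    simp [L] at this
    rw [MaxSub.lmap_apply, Submodule.coe_smul, hf.bilinear.smul_left, this, mul_zero]
  have hLsur : Function.Surjective L := (LinearMap.injective_iff_surjective_of_finrank_eq_finrank (by
    rw [hD.finrank_eq 1, Module.finrank_pi, Fintype.card_fin])).mp hLinj
  obtain ⟨w, hw⟩ : ∃ w : Fin 2 → D 1, ∀ j, L (w j) = -Pi.single j 1 :=
    ⟨fun j => (hLsur (-Pi.single j 1)).choose, fun j => (hLsur (-Pi.single j 1)).choose_spec⟩
  -- a symplectic basis adapted to the two planes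
  let col : ι₄ → (ι₄ → F) := Sum.elim (fun i => (b i : ι₄ → F)) (fun i => (w i : ι₄ → F))
  let P₀ : M₄ := Matrix.of fun i j => col j i
  have hcol : ∀ j, P₀ *ᵥ Pi.single j 1 = col j := fun j => by
    rw [Matrix.mulVec_single_one]; rfl
  have hbw : ∀ i j, f (b i : ι₄ → F) (w j : ι₄ → F) = -(1 : Matrix (Fin 2) (Fin 2) F) i j := fun i j => by
    have := congrFun (hw j) i
    simpa [L, Matrix.one_apply, Pi.single_apply] using this
  have hgram : P₀ᵀ * J₄ * P₀ = J₄ := by
    ext i j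
    have h1 : (P₀ᵀ * J₄ * P₀) i j = f (col i) (col j) := by
      rw [← hcol i, ← hcol j, hfdef]
      show _ = (P₀ *ᵥ Pi.single i 1) ⬝ᵥ (J₄ *ᵥ (P₀ *ᵥ Pi.single j 1))
      rw [Matrix.mulVec_mulVec, Matrix.mulVec_single_one, Matrix.mulVec_single_one, mul_assoc, Matrix.mul_apply]
      rfl
    rw [h1]
    rcases i with i | i <;> rcases j with j | j <;> simp only [col, Sum.elim_inl, Sum.elim_inr, Matrix.J,
      Matrix.fromBlocks_apply₁₁, Matrix.fromBlocks_apply₁₂, Matrix.fromBlocks_apply₂₁, Matrix.fromBlocks_apply₂₂,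
      Matrix.zero_apply, Matrix.neg_apply]
    · exact hts 0 _ (b i).2 _ (b j).2
    · exact hbw i j
    · rw [hf.skew, hbw, neg_neg]
      simp [Matrix.one_apply, eq_comm]
    · exact hts 1 _ (w i).2 _ (w j).2
  have hPdet : P₀.det ≠ 0 := by
    intro h0
    have h1 := congrArg Matrix.det hgram
    rw [Matrix.det_mul, h0, mul_zero] at h1
    exact ((Matrix.isUnit_iff_isUnit_det _).mp ((MaxSub.Asch.spData 2 F).gram).isUnit).ne_zero h1.symm
  set P := Matrix.GeneralLinearGroup.mkOfDetNeZero P₀ hPdet with hP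
  set Q := ((P⁻¹ : GL ι₄ F) : M₄) with hQ
  have hPQ : (P : M₄) * Q = 1 := P.mul_inv
  have hQP : Q * (P : M₄) = 1 := P.inv_mul
  have hPg : (P : M₄)ᵀ * J₄ * (P : M₄) = J₄ := hgram
  have hPT : (P : M₄)ᵀ * J₄ = J₄ * Q := by
    calc (P : M₄)ᵀ * J₄ = (P : M₄)ᵀ * J₄ * ((P : M₄) * Q) := by rw [hPQ, mul_one]
      _ = _ := by rw [← mul_assoc, hPg]
  have hQT : Qᵀ * J₄ = J₄ * (P : M₄) := by
    calc Qᵀ * J₄ = Qᵀ * ((P : M₄)ᵀ * J₄ * (P : M₄)) := by rw [hPg]
      _ = _ := by rw [← mul_assoc, ← mul_assoc, ← Matrix.transpose_mul, hPQ, Matrix.transpose_one, one_mul]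
  -- the sides
  let side : Fin 2 → Fin 2 → ι₄ := ![Sum.inl, Sum.inr]
  have hcolD : ∀ t j, col (side t j) ∈ D t := by
    intro t j
    fin_cases t
    · exact (b j).2
    · exact (w j).2
  have hspan : ∀ t, ∀ x ∈ D t, ∃ c : Fin 2 → F, x = ∑ j, c j • col (side t j) := by
    intro t x hx
    fin_cases t
    · exact ⟨b.equivFun ⟨x, hx⟩, by
        have h := congrArg Subtype.val (b.sum_equivFun ⟨x, hx⟩)
        simp only [Fin.sum_univ_two, Submodule.coe_add, Submodule.coe_smul] at h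
        rw [Fin.sum_univ_two]
        exact h.symm⟩
    · refine ⟨fun j => -L ⟨x, hx⟩ j, ?_⟩
      have : (⟨x, hx⟩ : D 1) = ∑ j, (-L ⟨x, hx⟩ j) • w j := by
        apply hLinj
        rw [map_sum]
        funext i
        simp [map_smul, hw, Finset.sum_apply, Pi.single_apply]
      conv_lhs => rw [show x = ((⟨x, hx⟩ : D 1) : ι₄ → F) from rfl, this]
      simp [col, side, Fin.sum_univ_two, neg_smul]
      try abel
  have hvan : ∀ t t', t' ≠ t → ∀ x ∈ D t, ∀ k, (Q *ᵥ x) (side t' k) = 0 := by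
    intro t t' ht x hx k
    obtain ⟨c, rfl⟩ := hspan t x hx
    have hQc : ∀ j, Q *ᵥ col j = Pi.single j 1 := fun j => by
      rw [← hcol j, Matrix.mulVec_mulVec, show Q * P₀ = 1 from hQP, Matrix.one_mulVec]
    rw [Matrix.mulVec_sum, Finset.sum_apply]
    refine Finset.sum_eq_zero fun j _ => ?_
    rw [Matrix.mulVec_smul, hQc, Pi.smul_apply, Pi.single_eq_of_ne, smul_zero]
    fin_cases t <;> fin_cases t' <;> first | exact absurd rfl ht | simp [side]
  -- the involution
  let W : Matrix (Fin 2) (Fin 2) F := !![0, -1; 1, 0]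
  let τ : M₄ := Matrix.fromBlocks 0 (-W) W 0
  have hτadj : τᵀ * J₄ = J₄ * τ := by
    ext (i | i) (j | j) <;> fin_cases i <;> fin_cases j <;>
      simp [τ, W, Matrix.J, Matrix.fromBlocks_transpose, Matrix.fromBlocks_multiply]
  have hττ : τ * τ = 1 := by
    ext (i | i) (j | j) <;> fin_cases i <;> fin_cases j <;>
      simp [τ, W, Matrix.fromBlocks_multiply, Matrix.one_apply, Matrix.mul_apply, Fin.sum_univ_two]
  have hback : ∀ y : M₄, Q * ((P : M₄) * y * Q) * (P : M₄) = y := fun y => by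
    rw [← mul_assoc, ← mul_assoc, hQP, one_mul, mul_assoc, hQP, mul_one]
  refine dec_of_involution hH h2 (s := (P : M₄) * τ * Q) ?_ ?_ ?_ ?_ ?_
  · rw [show (P : M₄) * τ * Q * ((P : M₄) * τ * Q) = (P : M₄) * τ * (Q * (P : M₄)) * τ * Q by
      simp only [mul_assoc], hQP, mul_one, mul_assoc (P : M₄) τ τ, hττ, mul_one, hPQ]
  · intro e
    have h1 := hback τ
    rw [e, mul_one, hQP] at h1
    have := congrFun (congrFun h1 (Sum.inl 0)) (Sum.inl 0)
    simp [τ] at this
  · intro e
    have h1 := hback τ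
    rw [e, mul_neg, neg_mul, mul_one, hQP] at h1
    have := congrFun (congrFun h1 (Sum.inl 0)) (Sum.inl 0)
    simp [τ] at this
  · rw [Matrix.transpose_mul, Matrix.transpose_mul,
      show Qᵀ * (τᵀ * (P : M₄)ᵀ) * J₄ = Qᵀ * τᵀ * ((P : M₄)ᵀ * J₄) by simp only [mul_assoc], hPT,
      show Qᵀ * τᵀ * (J₄ * Q) = Qᵀ * (τᵀ * J₄) * Q by simp only [mul_assoc], hτadj,
      show Qᵀ * (J₄ * τ) * Q = Qᵀ * J₄ * τ * Q by simp only [mul_assoc], hQT]
    simp only [mul_assoc]
  rintro g ⟨⟨σ, hσ⟩, hg⟩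
  set g' := Q * (g : M₄) * (P : M₄) with hg'
  have hzero : ∀ t t' j k, t' ≠ σ t → g' (side t' k) (side t j) = 0 := by
    intro t t' j k ht
    have h1 := hvan (σ t) t' ht _ (mulVec_mem_of_map hσ (hcolD t j)) k
    rw [← hcol, Matrix.mulVec_mulVec, Matrix.mulVec_mulVec, Matrix.mulVec_single_one] at h1
    exact h1
  have hg'g : g'ᵀ * J₄ * g' = J₄ := by
    have hgram' : (g : M₄)ᵀ * J₄ * (g : M₄) = J₄ := by
      have h := MaxSub.Asch.gram_of_mem_spGL hg
      rwa [show (g : M₄).map (RingHom.id F) = (g : M₄) from Matrix.ext fun _ _ => rfl] at h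
    rw [hg', Matrix.transpose_mul, Matrix.transpose_mul,
      show (P : M₄)ᵀ * ((g : M₄)ᵀ * Qᵀ) * J₄ * (Q * (g : M₄) * (P : M₄)) =
        (P : M₄)ᵀ * (g : M₄)ᵀ * (Qᵀ * J₄ * Q) * (g : M₄) * (P : M₄) by simp only [mul_assoc],
      hQT, mul_assoc J₄, hPQ, mul_one,
      show (P : M₄)ᵀ * (g : M₄)ᵀ * J₄ * (g : M₄) * (P : M₄) =
        (P : M₄)ᵀ * ((g : M₄)ᵀ * J₄ * (g : M₄)) * (P : M₄) by simp only [mul_assoc], hgram', hPg]
  suffices hkey : g' * τ = τ * g' ∨ g' * τ = -(τ * g') by
    have hgPQ : (g : M₄) = (P : M₄) * g' * Q := by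
      rw [hg', ← mul_assoc, ← mul_assoc, hPQ, one_mul, mul_assoc, hPQ, mul_one]
    rw [hgPQ]
    have hc : ∀ x y : M₄, (P : M₄) * x * Q * ((P : M₄) * y * Q) = (P : M₄) * (x * y) * Q := fun x y => by
      rw [show (P : M₄) * x * Q * ((P : M₄) * y * Q) = (P : M₄) * x * (Q * (P : M₄)) * y * Q by
        simp only [mul_assoc], hQP, mul_one, mul_assoc (P : M₄) x y]
    rw [hc, hc]
    rcases hkey with h | h
    · exact Or.inl (by rw [h])
    · exact Or.inr (by rw [h, mul_neg, neg_mul])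
  obtain ⟨A, B, C, D', he⟩ : ∃ A B C D', g' = Matrix.fromBlocks A B C D' :=
    ⟨_, _, _, _, (Matrix.fromBlocks_toBlocks g').symm⟩
  rw [he] at hg'g hzero ⊢
  by_cases hσ0 : σ 0 = 0
  · have hσ1 : σ 1 = 1 := by
      have h1 : σ 1 ≠ 0 := fun e => absurd (σ.injective (e.trans hσ0.symm)) (by decide)
      omega
    obtain rfl : C = 0 := Matrix.ext fun k j => hzero 0 1 j k (by rw [hσ0]; decide)
    obtain rfl : B = 0 := Matrix.ext fun k j => hzero 1 0 j k (by rw [hσ1]; decide)
    rw [Matrix.J, Matrix.fromBlocks_transpose, Matrix.fromBlocks_multiply, Matrix.fromBlocks_multiply,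
      Matrix.fromBlocks_inj] at hg'g
    simp at hg'g
    obtain ⟨hAD, hDA⟩ := hg'g
    have e1 : D' * Aᵀ = 1 := mul_eq_one_comm.mp hAD
    have e2 : A * D'ᵀ = 1 := mul_eq_one_comm.mp hDA
    have hdd : A.det * D'.det = 1 := by simpa using congrArg Matrix.det hAD
    have hd : D'.det = A.det := by
      rcases hv A.det (fun h => zero_ne_one (by rwa [h, zero_mul] at hdd)) with h | h <;> rw [h] at hdd ⊢ <;>
        first | linear_combination hdd | linear_combination -hdd
    have k1 : W * A = A.det • (D' * W) := by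
      rw [← Matrix.mul_smul, ← transpose_mul_two, ← mul_assoc, ← mul_assoc, e1, one_mul]
    have k2 : W * D' = A.det • (A * W) := by
      rw [← hd, ← Matrix.mul_smul, ← transpose_mul_two, ← mul_assoc, ← mul_assoc, e2, one_mul]
    rcases hv A.det (fun h => zero_ne_one (by rwa [h, zero_mul] at hdd)) with h | h
    · left
      rw [h, one_smul] at k1 k2
      simp [τ, Matrix.fromBlocks_multiply, k1, k2]
    · right
      rw [h, neg_one_smul] at k1 k2
      simp [τ, Matrix.fromBlocks_multiply, Matrix.fromBlocks_neg, k1, k2]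
  · have hσ0' : σ 0 = 1 := by omega
    have hσ1 : σ 1 = 0 := by
      have h1 : σ 1 ≠ 1 := fun e => absurd (σ.injective (e.trans hσ0'.symm)) (by decide)
      omega
    obtain rfl : A = 0 := Matrix.ext fun k j => hzero 0 0 j k (by rw [hσ0']; decide)
    obtain rfl : D' = 0 := Matrix.ext fun k j => hzero 1 1 j k (by rw [hσ1]; decide)
    rw [Matrix.J, Matrix.fromBlocks_transpose, Matrix.fromBlocks_multiply, Matrix.fromBlocks_multiply,
      Matrix.fromBlocks_inj] at hg'g
    simp at hg'g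
    obtain ⟨hCB, hBC⟩ : Cᵀ * B = -1 ∧ Bᵀ * C = -1 := ⟨hg'g.1, by rw [← hg'g.2, neg_neg]⟩
    have e1 : B * Cᵀ = -1 := by
      have h := mul_eq_one_comm.mp (show -Cᵀ * B = 1 by rw [neg_mul, hCB, neg_neg])
      rwa [mul_neg, neg_eq_iff_eq_neg] at h
    have e2 : C * Bᵀ = -1 := by
      have h := mul_eq_one_comm.mp (show -Bᵀ * C = 1 by rw [neg_mul, hBC, neg_neg])
      rwa [mul_neg, neg_eq_iff_eq_neg] at h
    have hdd : C.det * B.det = 1 := by simpa [Matrix.det_neg] using congrArg Matrix.det hCB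
    have hd : B.det = C.det := by
      rcases hv C.det (fun h => zero_ne_one (by rwa [h, zero_mul] at hdd)) with h | h <;> rw [h] at hdd ⊢ <;>
        first | linear_combination hdd | linear_combination -hdd
    have k1 : W * C = -(C.det • (B * W)) := by
      rw [← Matrix.mul_smul, ← transpose_mul_two, ← mul_assoc, ← mul_assoc, e1, neg_one_mul, neg_mul, neg_neg]
    have k2 : W * B = -(C.det • (C * W)) := by
      rw [← hd, ← Matrix.mul_smul, ← transpose_mul_two, ← mul_assoc, ← mul_assoc, e2, neg_one_mul, neg_mul, neg_neg]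
    rcases hv C.det (fun h => zero_ne_one (by rwa [h, zero_mul] at hdd)) with h | h
    · left
      rw [h, one_smul] at k1 k2
      simp [τ, Matrix.fromBlocks_multiply, k1, k2]
    · right
      rw [h, neg_one_smul, neg_neg] at k1 k2
      simp [τ, Matrix.fromBlocks_multiply, Matrix.fromBlocks_neg, k1, k2]

end Cfsg.Agent.Aschbacher
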