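import Cfsg.Agent.Aschbacher.Symp.Cases

/-!
Over the field with two elements the stabiliser of an orthogonal decomposition into planes preserves a quadratic form
polarising to the symplectic form.
-/

set_option autoImplicit false
set_option linter.unusedSectionVars false
set_option linter.style.haveILetI false

namespace Cfsg.Agent.Aschbacher

open scoped MatrixGroups Matrix
open Module

variable {F : Type*} [Field F] [Fintype F] {m : ℕ}

/-- Over two elements a decomposition into planes gives the orthogonal group. -/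
theorem dec_planes_two (hm : 2 ≤ m) {H : Subgroup (GL (Fin m ⊕ Fin m) F)} (hH : Geo.IsMaximalIn (spGL m F) H)
    (hq : Fintype.card F = 2) {t : ℕ} (h : SpDec t 2 H) : SpQuad H := by
  classical
  obtain ⟨D, hD, rfl⟩ := h
  have heven : ¬ Odd (Fintype.card F) := by rw [hq]; decide
  have hf := MaxSub.isSymplecticForm_sympForm (m := m) (F := F)
  have h01 : ∀ c : F, c = 0 ∨ c = 1 := by
    intro c
    by_contra h
    push Not at h
    have h2 : ({0, 1, c} : Finset F).card = 3 := by
      rw [Finset.card_insert_of_notMem (by simp [Ne.symm h.1]), Finset.card_insert_of_notMem (by simp [Ne.symm h.2]),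
        Finset.card_singleton]
    have := Finset.card_le_univ ({0, 1, c} : Finset F)
    omega
  have h2 : (2 : F) = 0 := two_eq_zero_of_not_odd heven
  obtain ⟨b, hb, hz⟩ := exists_decomp_basis hD.decomp
  let x : (Fin m ⊕ Fin m → F) → Fin t → Fin 2 → F := fun v i a => b.equivFun v (i, a)
  let comp : Fin t → (Fin m ⊕ Fin m → F) →ₗ[F] (Fin m ⊕ Fin m → F) := fun i =>
    ∑ a : Fin 2, ((LinearMap.proj (R := F) (φ := fun _ : Fin t × Fin 2 => F) (i, a)).comp b.equivFun.toLinearMap).smulRight (b (i, a))
  have hcomp : ∀ i v, comp i v = ∑ a : Fin 2, x v i a • b (i, a) := fun i v => by simp [comp, x]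
  have hcmem : ∀ i v, comp i v ∈ D i := fun i v => by
    rw [hcomp]
    exact Submodule.sum_mem _ fun a _ => Submodule.smul_mem _ _ (hb i a)
  have hsum : ∀ v, ∑ i, comp i v = v := fun v => by
    simp only [hcomp, x]
    rw [← Fintype.sum_prod_type']
    exact b.sum_equivFun v
  have hother : ∀ i v, v ∈ D i → ∀ j, j ≠ i → comp j v = 0 := fun i v hv j hj => by
    rw [hcomp]
    exact Finset.sum_eq_zero fun a _ => by simp only [x, hz i v hv j hj a, zero_smul]
  have hself : ∀ i v, v ∈ D i → comp i v = v := fun i v hv => by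
    conv_rhs => rw [← hsum v]
    rw [Finset.sum_eq_single i (fun j _ hj => hother i v hv j hj) (by simp)]
  let ρ : Fin t → (Fin m ⊕ Fin m → F) → F := fun i v => if comp i v = 0 then 0 else 1
  have hρ : ∀ i v, ρ i v = x v i 0 * x v i 0 + x v i 1 * x v i 1 + x v i 0 * x v i 1 := by
    intro i v
    have hiff : comp i v = 0 ↔ x v i 0 = 0 ∧ x v i 1 = 0 := by
      refine ⟨fun h0 => ?_, fun h0 => by simp [hcomp, Fin.sum_univ_two, h0.1, h0.2]⟩
      have hli : LinearIndependent F fun a => b (i, a) :=
        b.linearIndependent.comp _ fun a a' h => (Prod.mk.inj h).2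
      have := Fintype.linearIndependent_iff.mp hli (x v i) (by rw [← hcomp]; exact h0)
      exact ⟨this 0, this 1⟩
    simp only [ρ, hiff]
    rcases h01 (x v i 0) with e0 | e0 <;> rcases h01 (x v i 1) with e1 | e1 <;> rw [e0, e1] <;> simp
    first | linear_combination h2 | linear_combination -h2
  let Q : (Fin m ⊕ Fin m → F) → F := fun v => ∑ i, ρ i v
  have hsmul : ∀ (c : F) v, Q (c • v) = c ^ 2 * Q v := fun c v => by
    simp only [Q, hρ, x, map_smul, Pi.smul_apply, smul_eq_mul, Finset.mul_sum]
    exact Finset.sum_congr rfl fun i _ => by ring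
  have hplane : ∀ i, sympForm m F (b (i, 0)) (b (i, 1)) = 1 := by
    intro i
    rcases h01 (sympForm m F (b (i, 0)) (b (i, 1))) with h0 | h1
    · obtain ⟨⟨w, hw, hw'⟩, -⟩ := hD.nondegenerate i (b (i, 0)) (hb i 0) (b.ne_zero _)
      refine absurd ?_ hw'
      rw [← hself i w hw, hcomp, Fin.sum_univ_two, hf.bilinear.add_left, hf.bilinear.smul_left, hf.bilinear.smul_left,
        hf.alternating, hf.skew (b (i, 1)), h0]
      simp
    · exact h1
  have hpol : ∀ u v, QuadraticMap.polar Q u v = sympForm m F u v := by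
    intro u v
    have h1 : QuadraticMap.polar Q u v = ∑ i, (x u i 0 * x v i 1 + x u i 1 * x v i 0) := by
      simp only [QuadraticMap.polar, Q, hρ, x, map_add, Pi.add_apply, ← Finset.sum_sub_distrib]
      refine Finset.sum_congr rfl fun i _ => ?_
      linear_combination (b.equivFun u (i, 0) * b.equivFun v (i, 0) + b.equivFun u (i, 1) * b.equivFun v (i, 1)) * h2
    have h3 : ∀ i j, sympForm m F (comp i u) (comp j v) =
        if i = j then x u i 0 * x v i 1 + x u i 1 * x v i 0 else 0 := by
      intro i j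
      split_ifs with hij
      · subst hij
        rw [hcomp, hcomp, Fin.sum_univ_two, Fin.sum_univ_two]
        simp only [hf.bilinear.add_left, hf.bilinear.add_right, hf.bilinear.smul_left, hf.bilinear.smul_right,
          hf.alternating, hf.skew (b (i, 1)) (b (i, 0)), hplane]
        linear_combination (-(x u i 1 * x v i 0)) * h2
      · exact hD.orthogonal i j hij _ (hcmem i u) _ (hcmem j v)
    rw [h1]
    conv_rhs => rw [← hsum u, ← hsum v]
    rw [show sympForm m F (∑ i, comp i u) (∑ j, comp j v) = ∑ i, ∑ j, sympForm m F (comp i u) (comp j v) by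
      simp only [← MaxSub.lmap_apply hf.bilinear, map_sum]
      refine Finset.sum_congr rfl fun i _ => ?_
      simp only [MaxSub.lmap_apply, ← MaxSub.rmap_apply hf.bilinear, map_sum]]
    simp [h3]
  have hQ : Geo.IsNondegenerateQuadraticForm Q := by
    have hfun : QuadraticMap.polar Q = sympForm m F := funext fun u => funext fun v => hpol u v
    exact ⟨hsmul, by rw [hfun]; exact hf.bilinear, by rw [hfun]; exact hf.nondegenerate⟩
  refine quadCase_of_le_sp hm hH heven hQ hpol fun g hg => ⟨1, fun v => ?_⟩
  obtain ⟨σ, hσ⟩ := hg.1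
  have hkey : ∀ i, comp (σ i) ((g : Matrix (Fin m ⊕ Fin m) (Fin m ⊕ Fin m) F) *ᵥ v) =
      (g : Matrix (Fin m ⊕ Fin m) (Fin m ⊕ Fin m) F) *ᵥ comp i v := by
    intro i
    conv_lhs => rw [← hsum v, Matrix.mulVec_sum, map_sum]
    rw [Finset.sum_eq_single i (fun j _ hj => hother _ _ (mulVec_mem_of_map hσ (hcmem j v)) _
      (σ.injective.ne hj.symm)) (by simp), hself _ _ (mulVec_mem_of_map hσ (hcmem i v))]
  rw [Units.val_one, one_mul]
  simp only [Q]
  rw [← Equiv.sum_comp σ]
  refine Finset.sum_congr rfl fun i _ => ?_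
  simp only [ρ, hkey]
  have : (g : Matrix (Fin m ⊕ Fin m) (Fin m ⊕ Fin m) F) *ᵥ comp i v = 0 ↔ comp i v = 0 :=
    ⟨fun h => MaxSub.mulVec_injective g (h.trans (Matrix.mulVec_zero _).symm), fun h => by rw [h, Matrix.mulVec_zero]⟩
  simp only [this]

end Cfsg.Agent.Aschbacher
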